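import Groth.Agent.Fano25.GenericCount
import Mathlib.Algebra.MvPolynomial.Monad
import Mathlib.RingTheory.MvPolynomial.Basic
import Mathlib.LinearAlgebra.FiniteDimensional.Lemmas
import Mathlib.Data.Sym.Card
import Mathlib.Data.Finsupp.Multiset

/-! Standard charts for linear subspaces and the restriction of forms to them. -/

open MvPolynomial Module

namespace Fano25

universe u

/-- Exponents of degree `d` in `N` variables. -/
abbrev Mon (N d : ℕ) : Type := {β : Fin N →₀ ℕ // β.degree = d}

noncomputable instance (N d : ℕ) : Fintype (Mon N d) :=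
  ((Finsupp.finite_of_degree_le (σ := Fin N) d).subset
    (fun m (hm : m.degree = d) => by change m.degree ≤ d; exact hm.le)).fintype

theorem card_mon (m d : ℕ) : Fintype.card (Mon (m + 1) d) = (m + d).choose d := by
  let e : Mon (m + 1) d ≃ Sym (Fin (m + 1)) d :=
    (Equiv.subtypeEquivRight fun e => by simp [Finsupp.degree_eq_sum, Finsupp.sum_fintype]).trans
      (Sym.equivNatSum (Fin (m + 1)) d).symm
  rw [Fintype.card_congr e, Sym.card_sym_eq_choose (α := Fin (m + 1)), Fintype.card_fin]
  congr 1
  omega

variable (k : Type u) [Field k] (n d m : ℕ)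

/-- The monomial basis of the forms of degree `d`. -/
noncomputable def formBasis : Basis (Mon (n + 1) d) k (LefPen.Form n k d) :=
  (MvPolynomial.basisRestrictSupport k {β : Fin (n + 1) →₀ ℕ | β.degree = d}).map
    (LinearEquiv.ofEq _ _ (MvPolynomial.homogeneousSubmodule_eq_finsupp_supported (Fin (n + 1)) k d).symm)

theorem formBasis_val (β : Mon (n + 1) d) : ((formBasis k n d β : LefPen.Form n k d)).1 = monomial β.1 1 := by
  classical
  have h : monomial β.1 (1 : k) ∈ CohB1.polyGrading n k d :=
    (MvPolynomial.mem_homogeneousSubmodule _ _).mpr (MvPolynomial.isHomogeneous_monomial 1 β.2)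
  have h2 : (formBasis k n d).repr ⟨_, h⟩ = Finsupp.single β 1 := Finsupp.ext fun γ => by
    show coeff γ.1 (monomial β.1 (1 : k)) = _
    simp [coeff_monomial, Finsupp.single_apply, Subtype.ext_iff]
  rw [← Basis.repr_symm_single_one, ← h2, LinearEquiv.symm_apply_apply]

variable {n m}

/-- Coordinates of the chart `σ`. -/
abbrev ChartVar (σ : Fin m ↪ Fin (n + 1)) : Type := Fin m × {i : Fin (n + 1) // i ∉ Set.range σ}

variable {k} (σ : Fin m ↪ Fin (n + 1))

/-- The universal substitution. -/
noncomputable def substVar (i : Fin (n + 1)) : MvPolynomial (Fin m) (MvPolynomial (ChartVar σ) k) :=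
  if h : i ∈ Set.range σ then X h.choose else ∑ a : Fin m, C (X (a, ⟨i, h⟩)) * X a

/-- Substitution of the universal subspace of the chart. -/
noncomputable def subst : MvPolynomial (Fin (n + 1)) k →ₐ[k] MvPolynomial (Fin m) (MvPolynomial (ChartVar σ) k) :=
  aeval (substVar σ)

/-- The `α`-coefficient of the restriction of a form to the universal subspace. -/
noncomputable def restCoeff (α : Mon m d) : LefPen.Form n k d →ₗ[k] MvPolynomial (ChartVar σ) k :=
  ((lcoeff (MvPolynomial (ChartVar σ) k) α.1).restrictScalars k) ∘ₗ (subst σ).toLinearMap ∘ₗ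
    (CohB1.polyGrading n k d).subtype

/-- The vectors spanning the point `x` of the chart. -/
def chartVec (x : ChartVar σ → k) (a : Fin m) (i : Fin (n + 1)) : k :=
  if h : i ∈ Set.range σ then (if σ a = i then 1 else 0) else x (a, ⟨i, h⟩)

theorem substVar_range (b : Fin m) : substVar (k := k) σ (σ b) = X b := by
  have h : σ b ∈ Set.range σ := ⟨b, rfl⟩
  rw [substVar, dif_pos h, σ.injective h.choose_spec]

theorem chartVec_range (x : ChartVar σ → k) (a b : Fin m) : chartVec σ x a (σ b) = if a = b then 1 else 0 := by
  rw [chartVec, dif_pos ⟨b, rfl⟩]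
  simp [σ.injective.eq_iff]

theorem eval_subst (x : ChartVar σ → k) (s : Fin m → k) (g : MvPolynomial (Fin (n + 1)) k) :
    eval s ((subst σ g).map (eval x)) = eval (fun i => ∑ a, s a * chartVec σ x a i) g := by
  induction g using MvPolynomial.induction_on with
  | C a => simp [subst, MvPolynomial.algebraMap_eq, IsScalarTower.algebraMap_apply k (MvPolynomial (ChartVar σ) k)
      (MvPolynomial (Fin m) (MvPolynomial (ChartVar σ) k))]
  | add p q hp hq => simp [hp, hq]
  | mul_X p i hp =>
    rw [map_mul, map_mul, map_mul, hp, map_mul, eval_X]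
    congr 1
    simp only [subst, aeval_X]
    by_cases h : i ∈ Set.range σ
    · obtain ⟨b, rfl⟩ := h
      simp [substVar_range, chartVec_range]
    · simp only [chartVec, dif_neg h, substVar]
      simp [mul_comm]

theorem restCoeff_eq_zero [Infinite k] (x : ChartVar σ → k) (G : LefPen.Form n k d)
    (h : ∀ s : Fin m → k, eval (fun i => ∑ a, s a * chartVec σ x a i) G.1 = 0) (α : Mon m d) :
    eval x (restCoeff d σ α G) = 0 := by
  have h0 : (subst σ G.1).map (eval x) = 0 := MvPolynomial.funext fun s => by rw [eval_subst, h, map_zero]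
  have := congrArg (coeff α.1) h0
  rwa [coeff_map, coeff_zero] at this

theorem subst_monomial (α : Fin m →₀ ℕ) :
    subst (k := k) σ (monomial (α.mapDomain σ) 1) = monomial α 1 := by
  rw [← rename_monomial, subst, aeval_rename]
  have : (substVar (k := k) σ) ∘ σ = X := funext fun b => substVar_range σ b
  rw [this, aeval_def, eval₂_monomial]
  rw [map_one, one_mul, monomial_eq, C_1, one_mul]

theorem restCoeff_li (x : ChartVar σ → k) :
    LinearIndependent k (fun α : Mon m d => fun β => eval x (restCoeff d σ α (formBasis k n d β))) := by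
  classical
  rw [Fintype.linearIndependent_iff]
  intro g hg α'
  let β : Mon (n + 1) d := ⟨α'.1.mapDomain σ, (Finsupp.degree_mapDomain σ α'.1).trans α'.2⟩
  have h := congrFun hg β
  have hc : ∀ α : Mon m d, eval x (restCoeff d σ α (formBasis k n d β)) = if α = α' then 1 else 0 := fun α => by
    show eval x (coeff α.1 (subst σ (formBasis k n d β).1)) = _
    rw [formBasis_val, subst_monomial, coeff_monomial]
    simp [Subtype.ext_iff, eq_comm, apply_ite (eval x)]
  simpa [hc] using h

theorem exists_chart (U : Submodule k (Fin (n + 1) → k)) (hU : finrank k ↥U = m) :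
    ∃ (σ : Fin m ↪ Fin (n + 1)) (x : ChartVar σ → k), U = Submodule.span k (Set.range (chartVec σ x)) := by
  classical
  let π : Fin (n + 1) → Module.Dual k ↥U := fun i => (LinearMap.proj i) ∘ₗ U.subtype
  obtain ⟨κ, a, ha, hspan, hli⟩ := exists_linearIndependent' k π
  have htop : Submodule.span k (Set.range π) = ⊤ := by
    refine eq_top_iff.mpr fun φ _ => ?_
    refine FiniteDimensional.mem_span_of_iInf_ker_le_ker fun v hv => ?_
    have : v = 0 := Subtype.ext (funext fun i => (Submodule.mem_iInf _).mp hv i)
    simp [this]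
  have : Finite κ := Finite.of_injective a ha
  have := Fintype.ofFinite κ
  have hcard : Fintype.card κ = m := by
    rw [← finrank_span_eq_card hli, hspan, htop, finrank_top, Subspace.dual_finrank_eq, hU]
  let e : Fin m ≃ κ := (Fintype.equivFinOfCardEq hcard).symm
  let σ : Fin m ↪ Fin (n + 1) := ⟨a ∘ e, ha.comp e.injective⟩
  let F : ↥U →ₗ[k] (Fin m → k) := LinearMap.pi fun b => π (σ b)
  have hF : Function.Injective F := by
    rw [← LinearMap.ker_eq_bot, eq_bot_iff]
    intro v hv
    have hall : ∀ φ : Module.Dual k ↥U, φ v = 0 := by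
      intro φ
      have hφ : φ ∈ Submodule.span k (Set.range (π ∘ a)) := by rw [hspan, htop]; trivial
      induction hφ using Submodule.span_induction with
      | mem y hy =>
        obtain ⟨c, rfl⟩ := hy
        have := congrFun hv (e.symm c)
        simpa [F, σ] using this
      | zero => rfl
      | add y z _ _ h1 h2 => simp [h1, h2]
      | smul r y _ h1 => simp [h1]
    rw [Submodule.mem_bot]
    exact Subtype.ext (funext fun i => hall (π i))
  let Fe := LinearEquiv.ofInjectiveOfFinrankEq F hF (by rw [hU]; simp)
  let u : Fin m → ↥U := fun b => Fe.symm (Pi.single b 1)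
  refine ⟨σ, fun p => (u p.1).1 p.2.1, ?_⟩
  have hu : chartVec σ (fun p => (u p.1).1 p.2.1) = fun b => (u b).1 := by
    funext b i
    by_cases h : i ∈ Set.range σ
    · obtain ⟨c, rfl⟩ := h
      rw [chartVec_range]
      have : F (u b) c = (Pi.single b (1 : k) : Fin m → k) c := congrFun (Fe.apply_symm_apply (Pi.single b 1)) c
      rw [show (u b).1 (σ c) = F (u b) c from rfl, this, Pi.single_apply]
      simp [eq_comm]
    · simp only [chartVec, dif_neg h]
  rw [hu]
  apply le_antisymm
  · intro v hv
    have : (⟨v, hv⟩ : ↥U) = ∑ b, F ⟨v, hv⟩ b • u b := by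
      apply Fe.injective
      rw [map_sum]
      simp only [map_smul, u, LinearEquiv.apply_symm_apply]
      exact pi_eq_sum_univ' _
    rw [show v = ∑ b, F ⟨v, hv⟩ b • (u b).1 by simpa using congrArg Subtype.val this]
    exact Submodule.sum_mem _ fun b _ => Submodule.smul_mem _ _ (Submodule.subset_span ⟨b, rfl⟩)
  · rw [Submodule.span_le]
    rintro _ ⟨b, rfl⟩
    exact (u b).2

theorem chart_mem (x : ChartVar σ → k) (s : Fin m → k) :
    (fun i => ∑ a, s a * chartVec σ x a i) ∈ Submodule.span k (Set.range (chartVec σ x)) := by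
  have : (fun i => ∑ a, s a * chartVec σ x a i) = ∑ a, s a • chartVec σ x a := by
    funext i; simp [Finset.sum_apply]
  rw [this]
  exact Submodule.sum_mem _ fun b _ => Submodule.smul_mem _ _ (Submodule.subset_span ⟨b, rfl⟩)

theorem card_chartVar : Fintype.card (ChartVar σ) = m * (n + 1 - m) := by
  rw [Fintype.card_prod, Fintype.card_fin, Fintype.card_subtype_compl]
  congr 1
  rw [Fintype.card_fin]
  congr 1
  exact (Fintype.card_congr (Equiv.ofInjective σ σ.injective)).symm.trans (Fintype.card_fin m)

end Fano25
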