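import Groth.Agent.Fano25.DimTools
import Groth.Agent.Fano25.Chart
import Mathlib.LinearAlgebra.Matrix.Rank
import Mathlib.LinearAlgebra.Matrix.NonsingularInverse

/-! The dimension bound of a homogeneous system spreads out along a non-vanishing minor. -/

open MvPolynomial

namespace Fano25

universe u v

theorem exists_det_ne_zero {F : Type u} [Field F] {R J : Type} [Fintype R] [DecidableEq R] [Fintype J]
    (A : Matrix R J F) (h : LinearIndependent F A.row) : ∃ σ : R ↪ J, (A.submatrix id σ).det ≠ 0 := by
  classical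
  obtain ⟨κ, a, ha, hspan, hli⟩ := exists_linearIndependent' F A.col
  have : Finite κ := Finite.of_injective a ha
  have := Fintype.ofFinite κ
  have hcard : Fintype.card κ = Fintype.card R := by
    rw [← finrank_span_eq_card hli, hspan, ← Matrix.rank_eq_finrank_span_cols, LinearIndependent.rank_matrix h]
  let e : R ≃ κ := Fintype.equivOfCardEq hcard.symm
  refine ⟨⟨a ∘ e, ha.comp e.injective⟩, ?_⟩
  have hli' : LinearIndependent F ((A.submatrix id (a ∘ e)).col) := hli.comp e e.injective
  exact ((Matrix.isUnit_iff_isUnit_det _).mp (Matrix.linearIndependent_cols_iff_isUnit.mp hli')).ne_zero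

variable {R : Type u} [CommRing R] {σ : Type}

theorem homogeneousComponent_mul_right {h : MvPolynomial σ R} {e M : ℕ} (hh : h.IsHomogeneous e) (heM : e ≤ M)
    (f : MvPolynomial σ R) :
    homogeneousComponent M (f * h) = homogeneousComponent (M - e) f * h := by
  conv_lhs => rw [← sum_homogeneousComponent f, Finset.sum_mul, map_sum]
  have hterm : ∀ i, homogeneousComponent M (homogeneousComponent i f * h) =
      if i = M - e then homogeneousComponent i f * h else 0 := by
    intro i
    rw [homogeneousComponent_of_mem ((mem_homogeneousSubmodule _ _).mpr ((homogeneousComponent_isHomogeneous i f).mul hh))]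
    split_ifs with h1 h2 h2 <;> first | rfl | omega
  rw [Finset.sum_congr rfl fun i _ => hterm i, Finset.sum_ite_eq']
  split_ifs with h1
  · rfl
  · rw [homogeneousComponent_eq_zero _ _ (by simp at h1; omega), zero_mul]

/-- Spreading out: near a parameter with small dimension, the dimension stays small. -/
theorem exists_dim_certificate {k : Type u} [Field k] [Infinite k] {A : Type u} [CommRing A] [Algebra k A]
    {K : Type u} [Field K] [Algebra k K] (φ : A →ₐ[k] K) {N : ℕ} {ι : Type} [Fintype ι] (e : ι → ℕ) (he : ∀ t, 0 < e t)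
    (g : ι → MvPolynomial (Fin N) A) (hg : ∀ t, (g t).IsHomogeneous (e t)) {r : ℕ}
    (hdim : ringKrullDim (MvPolynomial (Fin N) K ⧸ Ideal.span (Set.range fun t => (g t).map φ.toRingHom)) ≤ r) :
    ∃ q : A, φ q ≠ 0 ∧ ∀ ψ : A →ₐ[k] k, ψ q ≠ 0 →
      ringKrullDim (MvPolynomial (Fin N) k ⧸ Ideal.span (Set.range fun t => (g t).map ψ.toRingHom)) ≤ r := by
  classical
  obtain ⟨a, ha⟩ := exists_linear_forms (k := k) r _ (by
    rintro _ ⟨t, rfl⟩; exact ⟨e t, he t, (hg t).map _⟩) hdim
  let h : ι ⊕ Fin r → MvPolynomial (Fin N) A :=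
    Sum.elim g fun i => ∑ j, C (algebraMap k A (a i j)) * X j
  let E : ι ⊕ Fin r → ℕ := Sum.elim e fun _ => 1
  have hh : ∀ t, (h t).IsHomogeneous (E t) := by
    rintro (t | i)
    · exact hg t
    · exact IsHomogeneous.sum _ _ _ fun j _ => (isHomogeneous_X A j).C_mul _
  choose Ml hMl using ha
  let M := (∑ l, Ml l) + (∑ t, E t) + 1
  have hEM : ∀ t, E t ≤ M := fun t => by
    have := Finset.single_le_sum (fun t _ => Nat.zero_le (E t)) (Finset.mem_univ t)
    omega
  let Col : Type := Σ t : ι ⊕ Fin r, Mon N (M - E t)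
  let col : Col → MvPolynomial (Fin N) A := fun c => monomial c.2.1 1 * h c.1
  have hcolh : ∀ c, (col c).IsHomogeneous M := fun c => by
    have := (isHomogeneous_monomial (1 : A) c.2.2).mul (hh c.1)
    rwa [Nat.sub_add_cancel (hEM c.1)] at this
  let Amat : Matrix (Mon N M) Col A := Matrix.of fun β c => coeff β.1 (col c)
  have hrange : Set.range (fun t => (h t).map φ.toRingHom) = (Set.range fun t => (g t).map φ.toRingHom) ∪
      Set.range fun i => ∑ j, C (algebraMap k K (a i j)) * X j := by
    rw [Set.Sum.elim_range (fun t => (g t).map φ.toRingHom) _ |>.symm]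
    congr 1
    funext t
    cases t with
    | inl t => rfl
    | inr i => simp [h, map_sum]
  have hli : LinearIndependent K (Amat.map φ).row := by
    rw [Fintype.linearIndependent_iff]
    intro c hc β
    have hzero : ∀ col', ∑ γ, c γ * φ (Amat γ col') = 0 := fun col' => by
      have := congrFun hc col'
      simpa [Finset.sum_apply] using this
    have hmem : monomial β.1 (1 : K) ∈ Ideal.span (Set.range fun t => (h t).map φ.toRingHom) := by
      obtain ⟨l, hl⟩ : ∃ l, Ml l ≤ β.1 l := by
        by_contra hne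
        push Not at hne
        have hdeg : ∑ l, β.1 l = M := by rw [← Finsupp.degree_eq_sum]; exact β.2
        have : ∑ l, β.1 l ≤ ∑ l, Ml l := Finset.sum_le_sum fun l _ => (hne l).le
        omega
      rw [show monomial β.1 (1 : K) = monomial (β.1 - Finsupp.single l (Ml l)) 1 * X l ^ Ml l by
        rw [X_pow_eq_monomial, monomial_mul, one_mul, tsub_add_cancel_of_le (Finsupp.single_le_iff.mpr hl)]]
      rw [hrange]
      exact Ideal.mul_mem_left _ _ (hMl l)
    obtain ⟨f, hf⟩ := Ideal.mem_span_range_iff_exists_fun.mp hmem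
    let L : MvPolynomial (Fin N) K →ₗ[K] K := ∑ γ : Mon N M, c γ • lcoeff K γ.1
    have hLh : ∀ t, ∀ x : MvPolynomial (Fin N) K, x.IsHomogeneous (M - E t) → L (x * (h t).map φ.toRingHom) = 0 := by
      intro t x hx
      rw [MvPolynomial.as_sum x, Finset.sum_mul, map_sum]
      refine Finset.sum_eq_zero fun m hm => ?_
      have hmdeg : m.degree = M - E t := by
        have := hx (MvPolynomial.mem_support_iff.mp hm)
        simpa [Finsupp.degree_eq_weight_one, Pi.one_def] using this
      have h0 := hzero ⟨t, ⟨m, hmdeg⟩⟩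
      have hx' : monomial m (coeff m x) * (h t).map φ.toRingHom = coeff m x • ((col ⟨t, ⟨m, hmdeg⟩⟩).map φ.toRingHom) := by
        simp only [col, map_mul, map_monomial, map_one, ← smul_mul_assoc, smul_monomial, smul_eq_mul, mul_one]
      rw [hx', map_smul]
      have hL : L ((col ⟨t, ⟨m, hmdeg⟩⟩).map φ.toRingHom) = 0 := by
        rw [← h0]
        simp [L, LinearMap.sum_apply, Amat, coeff_map]
      rw [hL, smul_zero]
    have h1 : L (monomial β.1 1) = c β := by
      simp [L, LinearMap.sum_apply, coeff_monomial, ← Subtype.ext_iff]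
    rw [← h1]
    have hβ : homogeneousComponent M (monomial β.1 (1 : K)) = monomial β.1 1 := by
      rw [homogeneousComponent_of_mem ((mem_homogeneousSubmodule _ _).mpr (isHomogeneous_monomial _ β.2)), if_pos rfl]
    rw [← hβ, ← hf, map_sum, map_sum]
    refine Finset.sum_eq_zero fun t _ => ?_
    rw [homogeneousComponent_mul_right ((hh t).map _) (hEM t)]
    exact hLh t _ (homogeneousComponent_isHomogeneous _ _)
  obtain ⟨s, hs⟩ := exists_det_ne_zero (Amat.map φ) hli
  refine ⟨(Amat.submatrix id s).det, ?_, fun ψ hψ => ?_⟩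
  · rw [AlgHom.map_det]; exact hs
  let B : Matrix (Mon N M) (Mon N M) k := (Amat.submatrix id s).map ψ
  have hB : IsUnit B.det := by
    rw [isUnit_iff_ne_zero]
    rwa [AlgHom.map_det] at hψ
  have hmem : ∀ β : Mon N M, monomial β.1 (1 : k) ∈ Ideal.span (Set.range fun t => (h t).map ψ.toRingHom) := by
    intro β
    let w := B⁻¹.mulVec (Pi.single β 1)
    have hw : B.mulVec w = Pi.single β 1 := by
      rw [Matrix.mulVec_mulVec, Matrix.mul_nonsing_inv _ hB, Matrix.one_mulVec]
    have : monomial β.1 (1 : k) = ∑ γ, C (w γ) * (col (s γ)).map ψ.toRingHom := by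
      ext δ
      rw [coeff_sum, coeff_monomial]
      by_cases hδ : δ.degree = M
      · have h0 := congrFun hw ⟨δ, hδ⟩
        simp only [Matrix.mulVec, dotProduct] at h0
        rw [Pi.single_apply] at h0
        have hiff : ((⟨δ, hδ⟩ : Mon N M) = β) ↔ β.1 = δ := by rw [Subtype.ext_iff]; exact eq_comm
        rw [if_congr hiff rfl rfl] at h0
        rw [← h0]
        refine Finset.sum_congr rfl fun γ _ => ?_
        rw [coeff_C_mul, coeff_map]
        show ψ (coeff δ (col (s γ))) * w γ = w γ * ψ (coeff δ (col (s γ)))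
        rw [mul_comm]
      · rw [if_neg (fun hb : β.1 = δ => hδ (by rw [← hb]; exact β.2))]
        refine (Finset.sum_eq_zero fun γ _ => ?_).symm
        rw [coeff_C_mul, coeff_map, (hcolh (s γ)).coeff_eq_zero hδ, map_zero, mul_zero]
    rw [this]
    refine Ideal.sum_mem _ fun γ _ => Ideal.mul_mem_left _ _ ?_
    show MvPolynomial.map ψ.toRingHom (monomial (s γ).2.1 1 * h (s γ).1) ∈ _
    rw [map_mul]
    exact Ideal.mul_mem_left _ _ (Ideal.subset_span ⟨(s γ).1, rfl⟩)
  refine dim_le_of_primary _ (by rintro _ ⟨t, rfl⟩; exact ⟨e t, he t, (hg t).map _⟩)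
    (fun i => (h (Sum.inr i)).map ψ.toRingHom) (fun i => ?_) fun l => ⟨M, ?_⟩
  · simp [irrel, RingHom.mem_ker, h, map_sum]
  · rw [X_pow_eq_monomial]
    refine (Ideal.span_mono ?_) (hmem ⟨Finsupp.single l M, Finsupp.degree_single _ _⟩)
    rintro _ ⟨t | i, rfl⟩
    · exact Or.inl ⟨t, rfl⟩
    · exact Or.inr ⟨i, rfl⟩

end Fano25
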