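import Groth.Agent.Fano25.GenericPoint

/-! The cone of lines through a point in the chart `v_l = 1`. -/

open MvPolynomial Module

namespace Fano25

universe u

variable {A B : Type u} [CommRing A] [CommRing B] {n : ℕ} (l : Fin (n + 1))

/-- `x ↦ x_l • v + y`, with `v_l = 1`. -/
noncomputable def shiftIn (v : Fin n → A) (i : Fin (n + 1)) : MvPolynomial (Fin (n + 1)) A :=
  Fin.insertNth (α := fun _ => MvPolynomial (Fin (n + 1)) A) l (X l)
    (fun a => X (l.succAbove a) + C (v a) * X l) i

theorem shiftIn_self (v : Fin n → A) : shiftIn l v l = X l := by simp [shiftIn]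

theorem shiftIn_succAbove (v : Fin n → A) (a : Fin n) :
    shiftIn l v (l.succAbove a) = X (l.succAbove a) + C (v a) * X l := by simp [shiftIn]

/-- The substitution. -/
noncomputable def shift (v : Fin n → A) : MvPolynomial (Fin (n + 1)) A →ₐ[A] MvPolynomial (Fin (n + 1)) A :=
  aeval (shiftIn l v)

theorem shift_shift_neg (v : Fin n → A) (g : MvPolynomial (Fin (n + 1)) A) :
    shift l (fun a => -v a) (shift l v g) = g := by
  have : (shift l (fun a => -v a)).comp (shift l v) = AlgHom.id A _ := by
    refine algHom_ext fun i => ?_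
    rcases Fin.eq_self_or_eq_succAbove l i with rfl | ⟨a, rfl⟩
    · simp [shift, shiftIn_self]
    · simp [shift, shiftIn_self, shiftIn_succAbove, MvPolynomial.algebraMap_eq]
  exact AlgHom.congr_fun this g

theorem map_shift (f : A →+* B) (v : Fin n → A) (g : MvPolynomial (Fin (n + 1)) A) :
    (shift l v g).map f = shift l (fun a => f (v a)) (g.map f) := by
  induction g using MvPolynomial.induction_on with
  | C a => simp [shift]
  | add p q hp hq => simp only [map_add, hp, hq]
  | mul_X p i hp =>
    rw [map_mul, map_mul, map_mul, map_mul, hp, MvPolynomial.map_X]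
    congr 1
    rcases Fin.eq_self_or_eq_succAbove l i with rfl | ⟨a, rfl⟩
    · simp [shift, shiftIn_self]
    · simp [shift, shiftIn_succAbove]

theorem isHomogeneous_shift {d : ℕ} {g : MvPolynomial (Fin (n + 1)) A} (hg : g.IsHomogeneous d) (v : Fin n → A) :
    (shift l v g).IsHomogeneous d := by
  have := hg.aeval (shiftIn l v) (n := 1) fun i => by
    rcases Fin.eq_self_or_eq_succAbove l i with rfl | ⟨a, rfl⟩
    · rw [shiftIn_self]; exact isHomogeneous_X A _
    · rw [shiftIn_succAbove]; exact (isHomogeneous_X A _).add ((isHomogeneous_X A _).C_mul _)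
  rwa [one_mul] at this

theorem eval_shift (v : Fin n → A) (x : Fin (n + 1) → A) (g : MvPolynomial (Fin (n + 1)) A) :
    eval x (shift l v g) =
      eval (Fin.insertNth (α := fun _ => A) l (x l) (fun a => x (l.succAbove a) + v a * x l)) g := by
  induction g using MvPolynomial.induction_on with
  | C a => simp [shift]
  | add p q hp hq => simp only [map_add, hp, hq]
  | mul_X p i hp =>
    rw [map_mul, map_mul, map_mul, hp, eval_X]
    congr 1
    rcases Fin.eq_self_or_eq_succAbove l i with rfl | ⟨a, rfl⟩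
    · simp [shift, shiftIn_self]
    · simp [shift, shiftIn_succAbove]

/-- Exponent vectors split along the variable `l`. -/
noncomputable def monSplit (d : ℕ) (p : Σ j : Fin (d + 1), Mon n j) : Mon (n + 1) d :=
  ⟨Finsupp.single l (d - p.1.1) + p.2.1.mapDomain l.succAbove, by
    rw [map_add, Finsupp.degree_single, Finsupp.degree_mapDomain, p.2.2]
    have := p.1.isLt
    omega⟩

theorem monSplit_apply (d : ℕ) (j : Fin (d + 1)) (β : Mon n j) :
    (monSplit l d ⟨j, β⟩).1 l = d - j.1 ∧ ∀ a, (monSplit l d ⟨j, β⟩).1 (l.succAbove a) = β.1 a := by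
  constructor
  · have : (β.1.mapDomain l.succAbove) l = 0 :=
      Finsupp.mapDomain_of_notMem_range _ _ (by rintro ⟨a, ha⟩; exact Fin.succAbove_ne l a ha)
    simp [monSplit, this]
  · intro a
    simp [monSplit, Finsupp.mapDomain_apply (Fin.succAbove_right_injective), Fin.ne_succAbove]

theorem monSplit_bijective (d : ℕ) : Function.Bijective (monSplit l d) := by
  constructor
  · rintro ⟨j, β⟩ ⟨j', β'⟩ h
    obtain ⟨h1, h2⟩ := monSplit_apply l d j β
    obtain ⟨h1', h2'⟩ := monSplit_apply l d j' β'
    rw [h] at h1 h2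
    have hβ : β.1 = β'.1 := Finsupp.ext fun a => by rw [← h2 a, h2' a]
    have hj : j = j' := Fin.ext (by have := β.2; rw [hβ, β'.2] at this; exact this.symm)
    subst hj
    rw [Subtype.ext hβ]
  · intro δ
    let β : Fin n →₀ ℕ := Finsupp.equivFunOnFinite.symm fun a => δ.1 (l.succAbove a)
    have hsum : δ.1 l + β.degree = d := by
      have h := δ.2
      rw [Finsupp.degree_eq_sum, Fin.sum_univ_succAbove _ l] at h
      rw [Finsupp.degree_eq_sum]
      simpa [β] using h
    refine ⟨⟨⟨β.degree, by omega⟩, ⟨β, rfl⟩⟩, Subtype.ext (Finsupp.ext fun i => ?_)⟩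
    obtain ⟨h1, h2⟩ := monSplit_apply l d ⟨β.degree, by omega⟩ ⟨β, rfl⟩
    rcases Fin.eq_self_or_eq_succAbove l i with rfl | ⟨a, rfl⟩
    · rw [h1]
      show d - β.degree = δ.1 i
      omega
    · rw [h2 a]
      simp [β]

theorem card_sum_mon (d : ℕ) :
    1 + ∑ j : Fin d, Fintype.card (Mon n (j.1 + 1)) = Fintype.card (Mon (n + 1) d) := by
  rw [← Fintype.card_of_bijective (monSplit_bijective (0 : Fin (n + 1)) d), Fintype.card_sigma, Fin.sum_univ_succ]
  congr 1
  exact (Fintype.card_eq_one_iff.mpr ⟨⟨0, by simp⟩, fun β => Subtype.ext (by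
    have := β.2
    exact (Finsupp.degree_eq_zero_iff _).mp this)⟩).symm

/-- The forms `H_0, …, H_d` cutting out the lines through the point. -/
noncomputable def coneCoeff {d : ℕ} (c : Mon (n + 1) d → A) (v : Fin n → A) (p : Σ j : Fin (d + 1), Mon n j) : A :=
  coeff (monSplit l d p).1 (shift l v (formOf c))

theorem map_coneCoeff {d : ℕ} (f : A →+* B) (c : Mon (n + 1) d → A) (v : Fin n → A) (p : Σ j : Fin (d + 1), Mon n j) :
    f (coneCoeff l c v p) = coneCoeff l (fun β => f (c β)) (fun a => f (v a)) p := by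
  rw [coneCoeff, ← coeff_map, map_shift, map_formOf]
  rfl

theorem shift_eq_sum {d : ℕ} (c : Mon (n + 1) d → A) (v : Fin n → A) :
    shift l v (formOf c) = ∑ j : Fin (d + 1),
      X l ^ (d - j.1) * rename l.succAbove (formOf fun β => coneCoeff l c v ⟨j, β⟩) := by
  rw [eq_formOf (isHomogeneous_shift l (formOf_isHomogeneous c) v), formOf,
    ← (Equiv.ofBijective _ (monSplit_bijective l d)).sum_comp, Fintype.sum_sigma]
  refine Finset.sum_congr rfl fun j _ => ?_
  simp only [formOf, map_sum, rename_monomial, Finset.mul_sum]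
  refine Finset.sum_congr rfl fun β _ => ?_
  rw [X_pow_eq_monomial, monomial_mul, one_mul, coneCoeff, formOf, map_sum]
  rfl

/-- Evaluation of the shifted form. -/
theorem eval_cone {d : ℕ} (c : Mon (n + 1) d → A) (v : Fin n → A) (s : A) (y : Fin n → A) :
    eval (Fin.insertNth (α := fun _ => A) l s (fun a => y a + v a * s)) (formOf c) =
      ∑ j : Fin (d + 1), s ^ (d - j.1) * eval y (formOf fun β => coneCoeff l c v ⟨j, β⟩) := by
  have h := congrArg (eval (Fin.insertNth (α := fun _ => A) l s y)) (shift_eq_sum l c v)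
  rw [eval_shift, map_sum] at h
  simp only [Fin.insertNth_apply_same, Fin.insertNth_apply_succAbove, map_mul, map_pow, eval_X, eval_rename] at h
  rw [h]
  refine Finset.sum_congr rfl fun j _ => ?_
  congr 2
  congr 1
  funext a
  simp

theorem coneCoeff_zero {d : ℕ} (c : Mon (n + 1) d → A) (v : Fin n → A) (β : Mon n (0 : Fin (d + 1))) :
    coneCoeff l c v ⟨0, β⟩ = eval (Fin.insertNth (α := fun _ => A) l 1 v) (formOf c) := by
  have h := eval_cone l c v 1 (fun _ => 0)
  simp only [mul_one, zero_add, one_pow, one_mul] at h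
  rw [h, Finset.sum_eq_single (0 : Fin (d + 1))]
  · have hu : (Finset.univ : Finset (Mon n (0 : Fin (d + 1)))) = {β} := Finset.eq_singleton_iff_unique_mem.mpr
      ⟨Finset.mem_univ _, fun γ _ => Subtype.ext (by
        rw [(Finsupp.degree_eq_zero_iff _).mp γ.2, (Finsupp.degree_eq_zero_iff _).mp β.2])⟩
    rw [formOf, hu, Finset.sum_singleton, (Finsupp.degree_eq_zero_iff _).mp β.2]
    simp
  · intro j _ hj
    rw [show (fun _ : Fin n => (0 : A)) = 0 from rfl, MvPolynomial.eval_zero, constantCoeff_eq]
    exact (formOf_isHomogeneous _).coeff_eq_zero (by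
      rw [map_zero]; exact fun h => hj (Fin.ext h.symm))
  · simp

end Fano25
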