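import Groth.Agent.Fano25.ConeCharts

/-! For a general form the cone of lines through each of its zeros is small. -/

open MvPolynomial Module

namespace Fano25

universe u

variable {k : Type u} [Field k]

/-- The coefficients of a form lie in any subring containing the point and the cone coefficients. -/
theorem coeff_mem_of_coneCoeff_mem {K : Type u} [CommRing K] {n d : ℕ} (l : Fin (n + 1)) (L : Subring K)
    (c : Mon (n + 1) d → K) (v : Fin n → K) (hv : ∀ a, v a ∈ L) (h : ∀ p, coneCoeff l c v p ∈ L) (β : Mon (n + 1) d) :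
    c β ∈ L := by
  let vL : Fin n → L := fun a => ⟨v a, hv a⟩
  let GLf : MvPolynomial (Fin (n + 1)) L := ∑ p, monomial (monSplit l d p).1 ⟨coneCoeff l c v p, h p⟩
  have hGL : GLf.map L.subtype = shift l v (formOf c) := by
    conv_rhs => rw [eq_formOf (isHomogeneous_shift l (formOf_isHomogeneous c) v), formOf,
      ← (Equiv.ofBijective _ (monSplit_bijective l d)).sum_comp]
    simp only [GLf, map_sum, map_monomial]
    refine Finset.sum_congr rfl fun p _ => ?_
    show monomial _ (coneCoeff l c v p) = _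
    unfold coneCoeff formOf
    rw [map_sum]
    rfl
  have hback : (shift l (fun a => -vL a) GLf).map L.subtype = formOf c := by
    rw [map_shift, hGL]
    exact shift_shift_neg l v _
  have h0 := congrArg (coeff β.1) hback
  rw [coeff_map, coeff_formOf] at h0
  rw [← h0]
  exact (coeff β.1 (shift l (fun a => -vL a) GLf)).2

theorem exists_poly_cone [Infinite k] {m d : ℕ} (hd : 1 ≤ d) (hdm : d + 2 ≤ m) (l : Fin (m + 2)) :
    ∃ Q : MvPolynomial (Mon (m + 2) d) k, Q ≠ 0 ∧ ∀ (c : Mon (m + 2) d → k) (v : Fin (m + 1) → k),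
      eval c Q ≠ 0 → eval (Fin.insertNth (α := fun _ => k) l 1 v) (formOf c) = 0 →
        ringKrullDim (MvPolynomial (Fin (m + 1)) k ⧸ Ideal.span (Set.range fun j : Fin d =>
          formOf fun β => coneCoeff l c v ⟨j.succ, β⟩)) ≤ ((m + 1 - d : ℕ) : WithBot ℕ∞) := by
  classical
  let J := Mon (m + 2) d
  let A := MvPolynomial (J ⊕ Fin (m + 1)) k
  let cA : J → A := fun β => X (Sum.inl β)
  let vA : Fin (m + 1) → A := fun a => X (Sum.inr a)
  let β0 : Mon (m + 1) (0 : Fin (d + 1)) := ⟨0, by simp⟩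
  let H0 : A := coneCoeff l cA vA ⟨0, β0⟩
  let Good : (A →ₐ[k] k) → Prop := fun ψ => ringKrullDim (MvPolynomial (Fin (m + 1)) k ⧸
    Ideal.span (Set.range fun j : Fin d => formOf fun β => ψ (coneCoeff l cA vA ⟨j.succ, β⟩))) ≤
      ((m + 1 - d : ℕ) : WithBot ℕ∞)
  let certs : Set A := {q | ∀ ψ : A →ₐ[k] k, ψ q ≠ 0 → Good ψ}
  let I : Ideal A := Ideal.span (insert H0 certs)
  suffices h : ∃ Q : MvPolynomial J k, Q ≠ 0 ∧ rename Sum.inl Q ∈ I by
    obtain ⟨Q, hQ0, hQI⟩ := h
    refine ⟨Q, hQ0, fun c v hc hv => ?_⟩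
    let ψ : A →ₐ[k] k := aeval (Sum.elim c v)
    have hψ : ψ (rename Sum.inl Q) = eval c Q := by
      show aeval _ _ = _
      rw [aeval_rename, Sum.elim_comp_inl, aeval_eq_eval]
    have hmap : ∀ p, ψ (coneCoeff l cA vA p) = coneCoeff l c v p := fun p => by
      show ψ.toRingHom _ = _
      rw [map_coneCoeff]
      congr 1 <;> funext x <;> exact aeval_X _ _
    obtain ⟨q, hq, hq0⟩ : ∃ q ∈ insert H0 certs, ψ q ≠ 0 := by
      by_contra hne
      push Not at hne
      refine hc ?_
      rw [← hψ]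
      exact (Ideal.span_le.mpr (show insert H0 certs ⊆ (RingHom.ker ψ : Ideal A) from hne) :
        I ≤ RingHom.ker ψ) hQI
    rcases hq with rfl | hq
    · exact absurd (by rw [hmap, coneCoeff_zero, hv]) hq0
    · have h1 := hq ψ hq0
      simp only [Good] at h1
      rw [show (fun j : Fin d => formOf fun β => ψ (coneCoeff l cA vA ⟨j.succ, β⟩)) =
        fun j : Fin d => formOf fun β => coneCoeff l c v ⟨j.succ, β⟩ from
        funext fun j => congrArg formOf (funext fun β => hmap _)] at h1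
      exact h1
  by_contra hne
  push Not at hne
  let S : Submonoid A := (nonZeroDivisors (MvPolynomial J k)).map (rename Sum.inl).toRingHom.toMonoidHom
  have hdisj : Disjoint (I : Set A) (S : Set A) := by
    rw [Set.disjoint_right]
    rintro _ ⟨Q, hQ, rfl⟩ hI
    exact hne Q (mem_nonZeroDivisors_iff_ne_zero.mp hQ) hI
  obtain ⟨P, hP, hIP, hPS⟩ := Ideal.exists_le_prime_disjoint I S hdisj
  let K := AlgebraicClosure (FractionRing (A ⧸ P))
  let ι : A ⧸ P →ₐ[k] K := IsScalarTower.toAlgHom k _ K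
  have hι : Function.Injective ι := by
    show Function.Injective (algebraMap (A ⧸ P) K)
    rw [IsScalarTower.algebraMap_eq (A ⧸ P) (FractionRing (A ⧸ P)) K]
    exact (algebraMap (FractionRing (A ⧸ P)) K).injective.comp (IsFractionRing.injective _ _)
  let φ : A →ₐ[k] K := ι.comp (Ideal.Quotient.mkₐ k P)
  have hker : ∀ a, φ a = 0 → a ∈ P := fun a ha => Ideal.Quotient.eq_zero_iff_mem.mp (hι (ha.trans (map_zero ι).symm))
  have hzero : ∀ a ∈ P, φ a = 0 := fun a ha => by
    show ι (Ideal.Quotient.mk P a) = 0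
    rw [Ideal.Quotient.eq_zero_iff_mem.mpr ha, map_zero]
  have hbad : ¬ ringKrullDim (MvPolynomial (Fin (m + 1)) K ⧸ Ideal.span (Set.range fun j : Fin d =>
      formOf fun β => φ (coneCoeff l cA vA ⟨j.succ, β⟩))) ≤ ((m + 1 - d : ℕ) : WithBot ℕ∞) := by
    intro hgood
    obtain ⟨q, hq, hq'⟩ := exists_dim_certificate φ (fun j : Fin d => j.1 + 1) (fun j => Nat.succ_pos _)
      (fun j : Fin d => formOf fun β : Mon (m + 1) (j.1 + 1) => coneCoeff l cA vA ⟨j.succ, β⟩)
      (fun j => formOf_isHomogeneous _) (r := m + 1 - d) (by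
        rw [show (fun j : Fin d => MvPolynomial.map φ.toRingHom (formOf fun β : Mon (m + 1) (j.1 + 1) =>
          coneCoeff l cA vA ⟨j.succ, β⟩)) = fun j : Fin d => formOf fun β => φ (coneCoeff l cA vA ⟨j.succ, β⟩)
          from funext fun j => map_formOf _ _]
        exact hgood)
    refine hq (hzero q (hIP (Ideal.subset_span (Set.mem_insert_of_mem _ fun ψ hψ => ?_))))
    have h1 := hq' ψ hψ
    rw [show (fun j : Fin d => MvPolynomial.map ψ.toRingHom (formOf fun β : Mon (m + 1) (j.1 + 1) =>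
      coneCoeff l cA vA ⟨j.succ, β⟩)) = fun j : Fin d => formOf fun β => ψ (coneCoeff l cA vA ⟨j.succ, β⟩)
      from funext fun j => map_formOf _ _] at h1
    exact h1
  obtain ⟨T, hT, hcard, halg⟩ := exists_transcendence_bound (k := k) m d hd hdm
    (fun j β => φ (coneCoeff l cA vA ⟨j.succ, β⟩)) hbad
  let T' := T ∪ Set.range fun a => φ (vA a)
  have hT' : T'.Finite := hT.union (Set.finite_range _)
  have hcard' : T'.ncard ≤ T.ncard + (m + 1) := by
    refine (Set.ncard_union_le _ _).trans (Nat.add_le_add_left ?_ _)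
    rw [← Set.image_univ]
    exact le_trans Set.ncard_image_le (le_of_eq (by rw [Set.ncard_univ, Nat.card_fin]))
  let L := algebraicClosure (IntermediateField.adjoin k T') K
  have hvL : ∀ a, φ (vA a) ∈ L := fun a => mem_algebraicClosure_iff.mpr
    (isAlgebraic_algebraMap (⟨φ (vA a), IntermediateField.subset_adjoin k T' (Or.inr ⟨a, rfl⟩)⟩ :
      IntermediateField.adjoin k T'))
  have hle : IntermediateField.adjoin k T ≤ IntermediateField.adjoin k T' :=
    IntermediateField.adjoin.mono _ _ _ Set.subset_union_left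
  have hH : ∀ p, φ (coneCoeff l cA vA p) ∈ L := by
    rintro ⟨j, β⟩
    rcases Fin.eq_zero_or_eq_succ j with rfl | ⟨j, rfl⟩
    · have hβ : β = β0 := Subtype.ext ((Finsupp.degree_eq_zero_iff _).mp β.2)
      rw [hβ, show φ (coneCoeff l cA vA ⟨0, β0⟩) = 0 from
        hzero _ (hIP (Ideal.subset_span (Set.mem_insert _ _)))]
      exact zero_mem L
    · obtain ⟨p, hp0, hp⟩ := halg j β
      refine mem_algebraicClosure_iff.mpr ⟨p.map (IntermediateField.inclusion hle).toRingHom,
        (Polynomial.map_ne_zero_iff (RingHom.injective _)).mpr hp0, ?_⟩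
      rw [← hp, Polynomial.aeval_def, Polynomial.aeval_def, Polynomial.eval₂_map]
      rfl
  have hcL : ∀ β : J, φ (cA β) ∈ L := by
    intro β
    refine coeff_mem_of_coneCoeff_mem l L.toSubring (fun γ => φ.toRingHom (cA γ)) (fun a => φ.toRingHom (vA a)) hvL
      (fun p => ?_) β
    rw [← map_coneCoeff]
    exact hH p
  let f : MvPolynomial J k →ₐ[k] K := φ.comp (rename Sum.inl)
  have hf : Function.Injective f := (injective_iff_map_eq_zero _).mpr fun Q hQ => by
    by_contra h0
    exact Set.disjoint_left.mp hPS (hker _ hQ) ⟨Q, mem_nonZeroDivisors_iff_ne_zero.mpr h0, rfl⟩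
  have htr := trdeg_le_of_algebraic hT' f hf (adjoin_range_X (σ := J) (R := k)) (by
    rintro _ ⟨β, rfl⟩
    have : f (X β) = φ (cA β) := congrArg φ (rename_X Sum.inl β)
    rw [this]
    exact mem_algebraicClosure_iff.mp (hcL β))
  rw [MvPolynomial.trdeg_of_isDomain, Cardinal.mk_fintype, Cardinal.lift_natCast, Nat.cast_le] at htr
  have h1 := card_sum_mon (n := m + 1) d
  have hJ : Fintype.card J = Fintype.card (Mon (m + 1 + 1) d) := rfl
  omega

/-- The functions cutting out the cone have small zero set in `k^(n+1)`. -/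
theorem dim_cone_le [Infinite k] {n d : ℕ} (l : Fin (n + 1)) (v : Fin n → k) (g : Fin d → MvPolynomial (Fin n) k)
    (hg : ∀ j, (g j).IsHomogeneous (j.1 + 1)) {r : ℕ}
    (h : ringKrullDim (MvPolynomial (Fin n) k ⧸ Ideal.span (Set.range g)) ≤ r) :
    ringKrullDim (MvPolynomial (Fin (n + 1)) k ⧸ Ideal.span (Set.range fun j =>
      aeval (fun a => X (l.succAbove a) - C (v a) * X l) (g j))) ≤ ((r + 1 : ℕ) : WithBot ℕ∞) := by
  classical
  obtain ⟨a, ha⟩ := exists_linear_forms (k := k) r _ (by rintro _ ⟨j, rfl⟩; exact ⟨_, Nat.succ_pos _, hg j⟩) h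
  let ρ : MvPolynomial (Fin n) k →ₐ[k] MvPolynomial (Fin (n + 1)) k :=
    aeval fun a => X (l.succAbove a) - C (v a) * X l
  let lam : Fin (r + 1) → MvPolynomial (Fin (n + 1)) k :=
    Fin.cons (X l) fun i => ρ (∑ j, C (algebraMap k k (a i j)) * X j)
  have hl : X l ∈ (Ideal.span ((Set.range fun j => ρ (g j)) ∪ Set.range lam)).radical :=
    Ideal.le_radical (Ideal.subset_span (Or.inr ⟨0, rfl⟩))
  refine dim_le_of_primary _ ?_ lam ?_ fun i => ?_
  · rintro _ ⟨j, rfl⟩
    refine ⟨j.1 + 1, Nat.succ_pos _, ?_⟩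
    have := (hg j).aeval (fun a => X (l.succAbove a) - C (v a) * X l : Fin n → MvPolynomial (Fin (n + 1)) k) (n := 1)
      fun a => (isHomogeneous_X k _).sub ((isHomogeneous_X k _).C_mul _)
    rwa [one_mul] at this
  · intro i
    refine Fin.cases ?_ (fun i => ?_) i
    · exact X_mem_irrel l
    · simp [lam, ρ, irrel, RingHom.mem_ker, map_sum]
  · rcases Fin.eq_self_or_eq_succAbove l i with rfl | ⟨b, rfl⟩
    · exact hl
    · obtain ⟨M, hM⟩ := ha b
      have h1 := Ideal.mem_map_of_mem ρ hM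
      rw [Ideal.map_span, map_pow] at h1
      have h2 : ρ (X b) ∈ (Ideal.span ((Set.range fun j => ρ (g j)) ∪ Set.range lam)).radical := by
        refine ⟨M, Ideal.span_mono ?_ h1⟩
        rintro _ ⟨x, ⟨j, rfl⟩ | ⟨i, rfl⟩, rfl⟩
        · exact Or.inl ⟨j, rfl⟩
        · exact Or.inr ⟨i.succ, by simp [lam]⟩
      have h3 := Ideal.add_mem _ h2 (Ideal.mul_mem_left _ (C (v b)) hl)
      simpa [ρ] using h3

end Fano25
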