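import Groth.Agent.Fano25.Certificate
import Groth.Agent.FBase64.TensorField
import Mathlib.RingTheory.TensorProduct.MvPolynomial
import Mathlib.FieldTheory.AlgebraicClosure

/-! Parameter count for systems of forms of degrees `1, …, d` cutting too large a locus. -/

open MvPolynomial Module
open scoped TensorProduct

namespace Fano25

universe u

/-- The form with coefficient vector `c`. -/
noncomputable def formOf {R : Type u} [CommRing R] {N e : ℕ} (c : Mon N e → R) : MvPolynomial (Fin N) R :=
  ∑ β, monomial β.1 (c β)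

theorem formOf_isHomogeneous {R : Type u} [CommRing R] {N e : ℕ} (c : Mon N e → R) : (formOf c).IsHomogeneous e :=
  IsHomogeneous.sum _ _ _ fun β _ => isHomogeneous_monomial _ β.2

theorem coeff_formOf {R : Type u} [CommRing R] {N e : ℕ} (c : Mon N e → R) (β : Mon N e) :
    coeff β.1 (formOf c) = c β := by
  simp [formOf, coeff_sum, coeff_monomial, ← Subtype.ext_iff]

theorem map_formOf {R S : Type u} [CommRing R] [CommRing S] {N e : ℕ} (f : R →+* S) (c : Mon N e → R) :
    (formOf c).map f = formOf (fun β => f (c β)) := by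
  simp [formOf, map_sum]

theorem eq_formOf {R : Type u} [CommRing R] {N e : ℕ} {g : MvPolynomial (Fin N) R} (hg : g.IsHomogeneous e) :
    g = formOf (fun β : Mon N e => coeff β.1 g) := by
  ext m
  by_cases hm : m.degree = e
  · exact (coeff_formOf (fun β : Mon N e => coeff β.1 g) ⟨m, hm⟩).symm
  · rw [hg.coeff_eq_zero hm, (formOf_isHomogeneous _).coeff_eq_zero hm]

/-- Forms of degree `e` in a prime of dimension at least `r + 1` have codimension at least `C(r + e, e)`. -/
theorem finrank_forms_add_le {K : Type u} [Field K] {N : ℕ} (P : Ideal (MvPolynomial (Fin N) K)) [P.IsPrime]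
    {r : ℕ} (hr : r + 1 ≤ qdim P) (e : ℕ) {D : ℕ} (w : Fin D → Mon N e → K) (hw : LinearIndependent K w)
    (hwP : ∀ t, formOf (w t) ∈ P) : D + (r + e).choose e ≤ Fintype.card (Mon N e) := by
  classical
  let A := MvPolynomial (Fin N) K ⧸ P
  let x : Fin N → A := fun i => Ideal.Quotient.mk P (X i)
  have htop : Algebra.adjoin K (Set.range x) = ⊤ := by
    rw [show x = ⇑(Ideal.Quotient.mkₐ K P) ∘ X from rfl, Set.range_comp, ← AlgHom.map_adjoin, adjoin_range_X,
      Algebra.map_top, AlgHom.range_eq_top]
    exact Ideal.Quotient.mkₐ_surjective _ _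
  have : Algebra.IsAlgebraic (Algebra.adjoin K (Set.range x)) A := by
    rw [htop]
    exact ⟨fun a => isAlgebraic_algebraMap (⟨a, Algebra.mem_top⟩ : (⊤ : Subalgebra K A))⟩
  obtain ⟨t, htx, ht⟩ := exists_isTranscendenceBasis_subset (R := K) (Set.range x)
  have := ((Set.finite_range x).subset htx).fintype
  have hcard : Fintype.card t = qdim P := by
    have h1 := ht.cardinalMk_eq_trdeg
    rw [Cardinal.mk_fintype, trdeg_quot] at h1
    exact_mod_cast h1
  choose pre hpre using fun z : t => htx z.2
  let emb : Fin (r + 1) ↪ t := (Fin.castLEEmb (hcard ▸ hr)).trans (Fintype.equivFin t).symm.toEmbedding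
  let f : Fin (r + 1) → Fin N := pre ∘ emb
  have hli : AlgebraicIndependent K (fun i => x (f i)) := by
    have := ht.1.comp emb emb.injective
    rwa [show (fun i => x (f i)) = Subtype.val ∘ emb from funext fun i => hpre (emb i)]
  let mk' : (Mon N e → K) →ₗ[K] A :=
    (Ideal.Quotient.mkₐ K P).toLinearMap ∘ₗ ∑ β, (monomial β.1).comp (LinearMap.proj β)
  have hmk : ∀ c, mk' c = Ideal.Quotient.mk P (formOf c) := fun c => by
    simp [mk', formOf, LinearMap.sum_apply]
  have hsub : Submodule.span K (Set.range w) ≤ LinearMap.ker mk' := Submodule.span_le.mpr (by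
    rintro _ ⟨i, rfl⟩
    rw [SetLike.mem_coe, LinearMap.mem_ker, hmk]
    exact Ideal.Quotient.eq_zero_iff_mem.mpr (hwP i))
  have h1 := Submodule.finrank_mono hsub
  rw [finrank_span_eq_card hw, Fintype.card_fin] at h1
  let mon : Mon (r + 1) e → A := fun β => aeval (fun i => x (f i)) (monomial β.1 (1 : K))
  have hmon : LinearIndependent K mon := by
    rw [Fintype.linearIndependent_iff]
    intro g hg β
    have h0 : aeval (fun i => x (f i)) (formOf g) = 0 := by
      rw [formOf, map_sum, ← hg]
      refine Finset.sum_congr rfl fun γ _ => ?_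
      rw [show monomial γ.1 (g γ) = g γ • monomial γ.1 (1 : K) by rw [smul_monomial, smul_eq_mul, mul_one], map_smul]
    have h2 := algebraicIndependent_iff.mp hli _ h0
    rw [← coeff_formOf g β, h2, coeff_zero]
  have hrange : Submodule.span K (Set.range mon) ≤ LinearMap.range mk' := Submodule.span_le.mpr (by
    rintro _ ⟨β, rfl⟩
    refine ⟨fun γ => coeff γ.1 (rename f (monomial β.1 (1 : K))), ?_⟩
    rw [hmk, ← eq_formOf ((isHomogeneous_monomial (1 : K) β.2).rename_isHomogeneous)]
    show Ideal.Quotient.mkₐ K P (rename f _) = aeval (fun i => x (f i)) (monomial β.1 (1 : K))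
    rw [show (fun i => x (f i)) = (⇑(Ideal.Quotient.mkₐ K P) ∘ X) ∘ f from rfl, ← aeval_rename, ← aeval_unique])
  have h2 := Submodule.finrank_mono hrange
  rw [finrank_span_eq_card hmon, card_mon] at h2
  have h3 := LinearMap.finrank_range_add_finrank_ker mk'
  rw [Module.finrank_pi] at h3
  omega

theorem li_map_of_li {F K : Type u} [Field F] [Field K] [Algebra F K] {D : ℕ} {J : Type} [Fintype J]
    (w : Fin D → J → F) (hw : LinearIndependent F w) :
    LinearIndependent K (fun t β => algebraMap F K (w t β)) := by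
  classical
  obtain ⟨s, hs⟩ := exists_det_ne_zero (Matrix.of w) hw
  rw [Fintype.linearIndependent_iff]
  intro g hg
  have h0 : Matrix.vecMul g (((Matrix.of w).submatrix id s).map (algebraMap F K)) = 0 := by
    funext t
    have := congrFun hg (s t)
    simpa [Matrix.vecMul, dotProduct, Finset.sum_apply] using this
  have hdet : (((Matrix.of w).submatrix id s).map (algebraMap F K)).det ≠ 0 := by
    rw [← RingHom.mapMatrix_apply, ← RingHom.map_det]
    exact (map_ne_zero _).mpr hs
  exact congrFun (Matrix.eq_zero_of_vecMul_eq_zero hdet h0)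

/-- Extension of a prime along a field extension of an algebraically closed field. -/
theorem isPrime_map_of_isAlgClosed {F K : Type u} [Field F] [IsAlgClosed F] [Field K] [Algebra F K] {N : ℕ}
    (P : Ideal (MvPolynomial (Fin N) F)) [P.IsPrime] : (P.map (MvPolynomial.map (algebraMap F K))).IsPrime := by
  let g := Ideal.Quotient.mkₐ F P
  let Φ := Algebra.TensorProduct.map (AlgHom.id F K) g
  have : IsDomain (K ⊗[F] (MvPolynomial (Fin N) F ⧸ P)) :=
    Groth.Agent.FBase64.isDomain_tensor_of_isAlgClosed F K _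
  have hker : RingHom.ker Φ = P.map (Algebra.TensorProduct.includeRight (R := F) (A := K)) := by
    rw [show Φ = Algebra.TensorProduct.map (AlgHom.id F K) g from rfl,
      Algebra.TensorProduct.lTensor_ker g (Ideal.Quotient.mkₐ_surjective F P)]
    congr 1
    exact Ideal.Quotient.mkₐ_ker F P
  have hprime : (RingHom.ker Φ).IsPrime := RingHom.ker_isPrime _
  let e := MvPolynomial.algebraTensorAlgEquiv (σ := Fin N) F K
  have h2 : P.map (MvPolynomial.map (algebraMap F K)) =
      (RingHom.ker Φ).map (e : K ⊗[F] MvPolynomial (Fin N) F →+* MvPolynomial (Fin N) K) := by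
    rw [hker]
    have hcomp : (MvPolynomial.map (algebraMap F K) : MvPolynomial (Fin N) F →+* MvPolynomial (Fin N) K) =
        (e : K ⊗[F] MvPolynomial (Fin N) F →+* MvPolynomial (Fin N) K).comp
          (Algebra.TensorProduct.includeRight (R := F) (A := K)).toRingHom := by
      refine RingHom.ext fun p => ?_
      simp [e]
    rw [hcomp, ← Ideal.map_map]
    rfl
  rw [h2]
  exact Ideal.map_isPrime_of_equiv e

/-- Elements of an extended ideal are combinations over `K` of the original ones, coefficientwise. -/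
theorem coordinate_mem {F K : Type u} [Field F] [Field K] [Algebra F K] {N e : ℕ}
    (P : Ideal (MvPolynomial (Fin N) F)) (c : Mon N e → K) (hc : formOf c ∈ P.map (MvPolynomial.map (algebraMap F K)))
    (l : K →ₗ[F] F) : formOf (fun β => l (c β)) ∈ P := by
  let Lam : MvPolynomial (Fin N) K →+ MvPolynomial (Fin N) F :=
    { toFun := fun p => AddMonoidAlgebra.ofCoeff (Finsupp.mapRange l (map_zero l) (AddMonoidAlgebra.coeff p))
      map_zero' := by simp
      map_add' := fun p q => by ext m; simp [coeff] }
  have hLam : ∀ p m, coeff m (Lam p) = l (coeff m p) := fun p m => by simp [Lam, coeff]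
  have hmul : ∀ (a : MvPolynomial (Fin N) K) (w : MvPolynomial (Fin N) F),
      Lam (a * w.map (algebraMap F K)) = Lam a * w := by
    classical
    intro a w
    ext m
    rw [hLam, coeff_mul, coeff_mul, map_sum]
    refine Finset.sum_congr rfl fun x _ => ?_
    rw [hLam, coeff_map, mul_comm (coeff x.1 a), ← Algebra.smul_def, map_smul, smul_eq_mul, mul_comm]
  have hall : ∀ p ∈ P.map (MvPolynomial.map (algebraMap F K)), ∀ b, Lam (b * p) ∈ P := by
    intro p hp
    induction hp using Submodule.span_induction with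
    | mem y hy =>
      obtain ⟨w, hw, rfl⟩ := hy
      intro b
      rw [hmul]
      exact P.mul_mem_left _ hw
    | zero => intro b; simp
    | add y z _ _ h1 h2 => intro b; rw [mul_add, map_add]; exact P.add_mem (h1 b) (h2 b)
    | smul a y _ h1 => intro b; rw [smul_eq_mul, ← mul_assoc]; exact h1 (b * a)
  have := hall _ hc 1
  rw [one_mul] at this
  convert this using 1
  ext m
  rw [hLam]
  by_cases hm : m.degree = e
  · rw [coeff_formOf _ ⟨m, hm⟩, coeff_formOf _ ⟨m, hm⟩]
  · rw [(formOf_isHomogeneous _).coeff_eq_zero hm, (formOf_isHomogeneous _).coeff_eq_zero hm, map_zero]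

theorem choose_ge {M j : ℕ} (h1 : 1 ≤ j) (h2 : j ≤ M) : M + 1 ≤ (M + 1).choose j := by
  induction M generalizing j with
  | zero => omega
  | succ M ih =>
    rcases j with _ | j
    · omega
    rcases j with _ | j
    · simp
    rw [Nat.choose_succ_succ]
    have h3 := ih (j := j + 1) (by omega) (by omega)
    have h4 : 0 < (M + 1).choose (j + 1 + 1) := Nat.choose_pos (by omega)
    simp only [Nat.succ_eq_add_one]
    omega

theorem exists_transcendence_bound {k K : Type u} [Field k] [Field K] [IsAlgClosed K] [Algebra k K] (m d : ℕ)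
    (hd : 1 ≤ d) (hdm : d + 2 ≤ m) (c : (j : Fin d) → Mon (m + 1) (j.1 + 1) → K)
    (hbad : ¬ ringKrullDim (MvPolynomial (Fin (m + 1)) K ⧸ Ideal.span (Set.range fun j => formOf (c j))) ≤
      ((m + 1 - d : ℕ) : WithBot ℕ∞)) :
    ∃ T : Set K, T.Finite ∧ T.ncard + (m + 1) ≤ ∑ j : Fin d, Fintype.card (Mon (m + 1) (j.1 + 1)) ∧
      ∀ j β, IsAlgebraic (IntermediateField.adjoin k T) (c j β) := by
  classical
  let g : Fin d → MvPolynomial (Fin (m + 1)) K := fun j => formOf (c j)
  let bad : ℕ → Prop := fun i => i < d ∧ ∃ P : Ideal (MvPolynomial (Fin (m + 1)) K),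
    P.IsPrime ∧ (∀ j : Fin d, j.1 ≤ i → g j ∈ P) ∧ m + 1 - i ≤ qdim P
  have hex : ∃ i, bad i := by
    rw [dim_le_iff] at hbad
    push Not at hbad
    obtain ⟨P, hP, hle, hq⟩ := hbad
    exact ⟨d - 1, by omega, P, hP, fun j _ => hle (Ideal.subset_span ⟨j, rfl⟩), by omega⟩
  obtain ⟨hid, P, hP, hgP, hqP⟩ := Nat.find_spec hex
  set i := Nat.find hex with hi
  have hmin : ∀ Q : Ideal (MvPolynomial (Fin (m + 1)) K), Q.IsPrime → (∀ j : Fin d, j.1 < i → g j ∈ Q) →
      qdim Q ≤ m + 1 - i := by
    intro Q hQ hgQ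
    rcases Nat.eq_zero_or_pos i with h0 | hpos
    · rw [h0]; exact qdim_le_card Q
    · by_contra hlt
      exact Nat.find_min hex (show i - 1 < i by omega) ⟨by omega, Q, hQ, fun j hj => hgQ j (by omega), by omega⟩
  let S : Set K := ⋃ (j : Fin d) (_ : j.1 < i), Set.range (c j)
  let F0 := IntermediateField.adjoin k S
  let F := algebraicClosure F0 K
  have : IsAlgClosed F := IsAlgClosure.isAlgClosed F0
  have hSF : ∀ x ∈ S, x ∈ F := fun x hx =>
    mem_algebraicClosure_iff.mpr (isAlgebraic_algebraMap (⟨x, IntermediateField.subset_adjoin k S hx⟩ : F0))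
  let P1 := P.comap (MvPolynomial.map (algebraMap F K))
  have hP1 : P1.IsPrime := Ideal.comap_isPrime _ _
  let PK := P1.map (MvPolynomial.map (algebraMap F K))
  have hPK : PK.IsPrime := isPrime_map_of_isAlgClosed P1
  have hPKP : PK ≤ P := Ideal.map_comap_le
  have hgPK : ∀ j : Fin d, j.1 < i → g j ∈ PK := by
    intro j hj
    have hmemF : ∀ β, c j β ∈ F := fun β => hSF _ (Set.mem_iUnion₂.mpr ⟨j, hj, β, rfl⟩)
    have he : g j = MvPolynomial.map (algebraMap F K) (formOf fun β => (⟨c j β, hmemF β⟩ : F)) := by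
      rw [map_formOf]; rfl
    rw [he]
    refine Ideal.mem_map_of_mem _ ?_
    show MvPolynomial.map (algebraMap F K) _ ∈ P
    rw [← he]
    exact hgP j hj.le
  have hPeq : PK = P := eq_of_qdim_le hPKP ((hmin PK hPK hgPK).trans hqP)
  let ii : Fin d := ⟨i, hid⟩
  have hgi : formOf (c ii) ∈ PK := by rw [hPeq]; exact hgP ii le_rfl
  -- the coefficient space over `F`
  let fo : (Mon (m + 1) (i + 1) → F) →ₗ[F] MvPolynomial (Fin (m + 1)) F := ∑ β, (monomial β.1).comp (LinearMap.proj β)
  have hfo : ∀ w, fo w = formOf w := fun w => by simp [fo, formOf, LinearMap.sum_apply]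
  let W : Submodule F (Mon (m + 1) (i + 1) → F) := (P1.restrictScalars F).comap fo
  let D := finrank F W
  let bW : Basis (Fin D) F W := Module.finBasis F W
  let w : Fin D → Mon (m + 1) (i + 1) → F := fun t => (bW t).1
  have hwP : ∀ t, formOf (fun β => algebraMap F K (w t β)) ∈ P := fun t => by
    rw [← map_formOf, ← hfo]
    exact (bW t).2
  have hD : D + (m - i + (i + 1)).choose (i + 1) ≤ Fintype.card (Mon (m + 1) (i + 1)) := by
    refine finrank_forms_add_le (r := m - i) P (by omega) (i + 1) _
      (li_map_of_li w ?_) hwP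
    exact bW.linearIndependent.map' W.subtype W.ker_subtype
  -- expansion of `g_i`
  obtain ⟨A, hA⟩ : ∃ A : Fin D → K, ∀ β, c ii β = ∑ t, A t * algebraMap F K (w t β) := by
    let b := Basis.ofVectorSpace F K
    have hmem : ∀ z, (fun β => b.coord z (c ii β)) ∈ W := fun z => by
      show fo _ ∈ P1
      rw [hfo]
      exact coordinate_mem P1 (c ii) hgi (b.coord z)
    let α := fun z t => bW.repr ⟨_, hmem z⟩ t
    have hα : ∀ z β, b.coord z (c ii β) = ∑ t, α z t * w t β := fun z β => by
      have h0 := congrFun (congrArg Subtype.val (bW.sum_repr ⟨_, hmem z⟩)) β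
      rw [AddSubmonoidClass.coe_finsetSum, Finset.sum_apply] at h0
      exact h0.symm
    let Z := Finset.univ.biUnion fun β => (b.repr (c ii β)).support
    refine ⟨fun t => ∑ z ∈ Z, α z t • b z, fun β => ?_⟩
    conv_lhs => rw [← b.linearCombination_repr (c ii β), Finsupp.linearCombination_apply,
      Finsupp.sum_of_support_subset _ (Finset.subset_biUnion_of_mem (fun β => (b.repr (c ii β)).support) (Finset.mem_univ β) : _ ⊆ Z)
        _ (fun z _ => zero_smul F (b z))]
    simp only [Finset.sum_mul]
    rw [Finset.sum_comm]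
    refine Finset.sum_congr rfl fun z _ => ?_
    rw [show b.repr (c ii β) z = b.coord z (c ii β) from rfl, hα, Finset.sum_smul]
    refine Finset.sum_congr rfl fun t _ => ?_
    simp only [Algebra.smul_def, map_mul]
    ring
  -- the parameter set
  let Idx := (Σ j : {j : Fin d // j ≠ ii}, Mon (m + 1) (j.1.1 + 1)) ⊕ Fin D
  let f : Idx → K := Sum.elim (fun p => c p.1.1 p.2) A
  refine ⟨Set.range f, Set.finite_range f, ?_, ?_⟩
  · have h1 : (Set.range f).ncard ≤ Fintype.card Idx := by
      rw [← Set.image_univ]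
      exact le_trans Set.ncard_image_le (le_of_eq (by rw [Set.ncard_univ, Nat.card_eq_fintype_card]))
    have h2 : Fintype.card Idx = ∑ j : {j : Fin d // j ≠ ii}, Fintype.card (Mon (m + 1) (j.1.1 + 1)) + D := by
      simp [Idx, Fintype.card_sigma]
    have h3 : ∑ j : Fin d, Fintype.card (Mon (m + 1) (j.1 + 1)) = Fintype.card (Mon (m + 1) (i + 1)) +
        ∑ j : {j : Fin d // j ≠ ii}, Fintype.card (Mon (m + 1) (j.1.1 + 1)) := by
      rw [← Finset.add_sum_erase _ _ (Finset.mem_univ ii)]
      congr 1
      exact Finset.sum_subtype _ (fun x => by simp) fun j : Fin d => Fintype.card (Mon (m + 1) (j.1 + 1))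
    have h4 := choose_ge (M := m) (j := i + 1) (by omega) (by omega)
    rw [show m - i + (i + 1) = m + 1 by omega] at hD
    omega
  · intro j β
    let T := Set.range f
    let L := algebraicClosure (IntermediateField.adjoin k T) K
    suffices c j β ∈ L from mem_algebraicClosure_iff.mp this
    have hT : ∀ x ∈ T, x ∈ L := fun x hx =>
      mem_algebraicClosure_iff.mpr (isAlgebraic_algebraMap (⟨x, IntermediateField.subset_adjoin k T hx⟩ : IntermediateField.adjoin k T))
    by_cases hj : j = ii
    · subst hj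
      rw [hA]
      refine sum_mem fun t _ => mul_mem (hT _ ⟨Sum.inr t, rfl⟩) ?_
      have halg : IsAlgebraic F0 (algebraMap F K (w t β)) := mem_algebraicClosure_iff.mp (w t β).2
      obtain ⟨p, hp0, hp⟩ := halg
      have hle : F0 ≤ IntermediateField.adjoin k T := IntermediateField.adjoin.mono _ _ _ (by
        intro x hx
        simp only [S, Set.mem_iUnion, Set.mem_range] at hx
        obtain ⟨j', hj', β', rfl⟩ := hx
        exact ⟨Sum.inl ⟨⟨j', fun h => by simp [h, ii] at hj'⟩, β'⟩, rfl⟩)
      refine mem_algebraicClosure_iff.mpr ⟨p.map (IntermediateField.inclusion hle).toRingHom, ?_, ?_⟩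
      · exact (Polynomial.map_ne_zero_iff (RingHom.injective _)).mpr hp0
      · rw [← hp, Polynomial.aeval_def, Polynomial.aeval_def, Polynomial.eval₂_map]
        rfl
    · exact hT _ ⟨Sum.inl ⟨⟨j, hj⟩, β⟩, rfl⟩

end Fano25
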