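import Groth.Agent.Fano25.DiscrBasic
import Groth.Agent.Fano25.DimTools
import Groth.Agent.An92.Lef.Forms
import Mathlib.RingTheory.Nullstellensatz
import Mathlib.RingTheory.Valuation.LocalSubring
import Mathlib.RingTheory.Algebraic.Integral

/-!
The incidence variety of singular forms maps onto a hypersurface.
-/

set_option autoImplicit false
universe u v

open MvPolynomial
open Groth.Agent.An92.Lef (Expo)

noncomputable section

namespace Groth.Agent.Fano25

variable (n d : ℕ) (k : Type u) [Field k]

/-- The exponents of forms singular at the first vertex. -/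
abbrev WExp : Type := {γ : Expo n d // γ.1 0 < d - 1}

/-- The parameters of the incidence variety. -/
abbrev Par : Type := Fin n ⊕ WExp n d

/-- The generic form singular at the first vertex. -/
def gfw : MvPolynomial (Fin (n + 1)) (MvPolynomial (Par n d) k) :=
  ∑ γ : WExp n d, monomial γ.1.1 (X (Sum.inr γ))

/-- The generic singular form. -/
def gb : MvPolynomial (Fin (n + 1)) (MvPolynomial (Par n d) k) :=
  tsub (fun i => X (Sum.inl i)) (gfw n d k)

/-- The parametrisation of the singular forms. -/
def psi : MvPolynomial (Expo n d) k →ₐ[k] MvPolynomial (Par n d) k :=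
  aeval fun β => coeff β.1 (gb n d k)

variable {n d k}

theorem gfw_isHomogeneous : (gfw n d k).IsHomogeneous d :=
  IsHomogeneous.sum _ _ _ fun γ _ => isHomogeneous_monomial _ γ.1.2

theorem gb_isHomogeneous : (gb n d k).IsHomogeneous d := tsub_isHomogeneous _ gfw_isHomogeneous

theorem coeff_gfw (γ : WExp n d) : coeff γ.1.1 (gfw n d k) = X (Sum.inr γ) := by
  classical
  rw [gfw, coeff_sum, Finset.sum_eq_single γ (fun x _ hx => ?_) (by simp), coeff_monomial, if_pos rfl]
  rw [coeff_monomial, if_neg fun h => hx (Subtype.ext (Subtype.ext h))]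

theorem isSingAt_gfw (hd : 1 ≤ d) : IsSingAt (gfw n d k) (vtx _ n) := by
  classical
  refine (isSingAt_vtx_iff gfw_isHomogeneous hd).2 fun γ _ hγ0 => ?_
  rw [gfw, coeff_sum]
  refine Finset.sum_eq_zero fun x _ => ?_
  rw [coeff_monomial, if_neg fun h => ?_]
  have := x.2
  rw [h] at this
  omega

theorem isSingAt_gb (hd : 1 ≤ d) :
    IsSingAt (gb n d k) (Fin.cons 1 fun i => X (Sum.inl i) : Fin (n + 1) → MvPolynomial (Par n d) k) :=
  isSingAt_tsub _ (isSingAt_gfw hd)

theorem map_gb {S : Type v} [CommRing S] (φ : MvPolynomial (Par n d) k →+* S) :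
    map φ (gb n d k) = tsub (fun i => φ (X (Sum.inl i))) (∑ γ : WExp n d, monomial γ.1.1 (φ (X (Sum.inr γ)))) := by
  rw [gb, map_tsub, gfw, map_sum]
  simp only [map_monomial]

theorem card_wExp (hd : 2 ≤ d) : Fintype.card (WExp n d) + (n + 1) = Fintype.card (Expo n d) := by
  classical
  have e : Fintype.card {γ : Expo n d // ¬ γ.1 0 < d - 1} = n + 1 := by
    let f : Fin (n + 1) → {γ : Expo n d // ¬ γ.1 0 < d - 1} := fun l =>
      ⟨⟨Finsupp.single 0 (d - 1) + Finsupp.single l 1, by
        rw [map_add, Finsupp.degree_single, Finsupp.degree_single]; omega⟩, by simp⟩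
    have hinj : Function.Injective f := fun a b h => by
      have := congrArg (fun x : {γ : Expo n d // ¬ γ.1 0 < d - 1} => x.1.1) h
      simp only [f, add_right_inj] at this
      exact (Finsupp.single_left_inj one_ne_zero).1 this
    have hsurj : Function.Surjective f := fun γ => by
      rcases special_cases γ.1.2 (not_lt.1 γ.2) with h | ⟨i, hi⟩
      · refine ⟨0, Subtype.ext (Subtype.ext ?_)⟩
        show Finsupp.single 0 (d - 1) + Finsupp.single 0 1 = γ.1.1
        rw [h, ← Finsupp.single_add, show d - 1 + 1 = d by omega]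
      · exact ⟨i.succ, Subtype.ext (Subtype.ext hi.symm)⟩
    rw [← Fintype.card_of_bijective ⟨hinj, hsurj⟩, Fintype.card_fin]
  have := Fintype.card_congr (Equiv.sumCompl (fun γ : Expo n d => γ.1 0 < d - 1))
  rw [Fintype.card_sum] at this
  simp only [← Nat.card_eq_fintype_card] at *
  change Nat.card {γ : Expo n d // γ.1 0 < d - 1} + (n + 1) = _
  omega

theorem card_par (hd : 2 ≤ d) : Fintype.card (Par n d) + 1 = Fintype.card (Expo n d) := by
  rw [Fintype.card_sum, Fintype.card_fin, ← card_wExp hd]
  ring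

theorem eval_smul' {σ R : Type*} [CommRing R] {g : MvPolynomial σ R} {e : ℕ} (hg : g.IsHomogeneous e) (a : R)
    (v : σ → R) : eval (fun l => a * v l) g = a ^ e * eval v g := by
  rw [eval_eq, eval_eq, Finset.mul_sum]
  refine Finset.sum_congr rfl fun m hm => ?_
  have hdeg : m.degree = e := by
    by_contra h
    exact mem_support_iff.1 hm (hg.coeff_eq_zero h)
  simp only [mul_pow, Finset.prod_mul_distrib, Finset.prod_pow_eq_pow_sum]
  rw [← hdeg, Finsupp.degree_apply]
  ring

theorem IsSingAt.smul {R : Type*} [CommRing R] {G : MvPolynomial (Fin (n + 1)) R} (hG : G.IsHomogeneous d)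
    {v : Fin (n + 1) → R} (h : IsSingAt G v) (a : R) : IsSingAt G fun l => a * v l :=
  ⟨by rw [eval_smul' hG, h.1, mul_zero], fun i => by rw [eval_smul' hG.pderiv, h.2 i, mul_zero]⟩

/-- A form without singular points on the hyperplane has none over any field extension. -/
theorem not_isSingAt_extension [IsAlgClosed k] {G₀ : MvPolynomial (Fin (n + 1)) k}
    (hG₀ : ∀ v : Fin (n + 1) → k, v ≠ 0 → v 0 = 0 → ¬ IsSingAt G₀ v) {L : Type v} [Field L] (φ : k →+* L)
    {v : Fin (n + 1) → L} (hv0 : v 0 = 0) (h : IsSingAt (map φ G₀) v) : v = 0 := by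
  classical
  let J : Ideal (MvPolynomial (Fin (n + 1)) k) :=
    Ideal.span (insert (X 0) (insert G₀ (Set.range fun i => pderiv i G₀)))
  have hzl : zeroLocus k J ⊆ {0} := by
    intro w hw
    by_contra hne
    have hev : ∀ g ∈ J, eval w g = 0 := fun g hg => by
      rw [← aeval_eq_eval]; exact mem_zeroLocus_iff.1 hw g hg
    refine hG₀ w hne ?_ ⟨hev _ (Ideal.subset_span (Set.mem_insert_of_mem _ (Set.mem_insert _ _))), fun i => hev _
      (Ideal.subset_span (Set.mem_insert_of_mem _ (Set.mem_insert_of_mem _ ⟨i, rfl⟩)))⟩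
    simpa using hev _ (Ideal.subset_span (Set.mem_insert (X 0) _))
  have hJ : J ≤ RingHom.ker (eval₂Hom φ v) := by
    refine Ideal.span_le.2 ?_
    rintro g (rfl | rfl | ⟨i, rfl⟩)
    · simpa using hv0
    · rw [SetLike.mem_coe, RingHom.mem_ker, coe_eval₂Hom, ← eval_map]; exact h.1
    · rw [SetLike.mem_coe, RingHom.mem_ker, coe_eval₂Hom, ← eval_map, ← pderiv_map]; exact h.2 i
  funext t
  obtain ⟨a, ha⟩ : (X t : MvPolynomial (Fin (n + 1)) k) ∈ J.radical := by
    rw [← vanishingIdeal_zeroLocus_eq_radical (K := k) J, mem_vanishingIdeal_iff]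
    intro w hw
    rw [aeval_X, hzl hw]
    rfl
  have := hJ ha
  rw [RingHom.mem_ker, map_pow, coe_eval₂Hom, eval₂_X] at this
  exact (pow_eq_zero_iff'.1 this).1

/-- A valuation ring centred at a point of `A` and at the zero of a transcendental element. -/
theorem exists_valuationSubring_center {A : Type v} [CommRing A] {K : Type v} [Field K] {F : Type u} [Field F]
    (f : A →+* K) (s : K) (hs : Function.Injective (Polynomial.eval₂RingHom f s)) (χ : A →+* F) :
    ∃ V : ValuationSubring K, (∀ a, f a ∈ V) ∧ (∀ a, χ a = 0 → f a ∈ V.nonunits) ∧ s ∈ V.nonunits := by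
  let ar := Polynomial.eval₂RingHom f s
  let eR : Polynomial A ≃+* ar.range := RingEquiv.ofBijective ar.rangeRestrict
    ⟨fun a b h => hs (congrArg Subtype.val h), RingHom.rangeRestrict_surjective _⟩
  let π : Polynomial A →+* F := χ.comp Polynomial.constantCoeff
  let I : Ideal ar.range := RingHom.ker (π.comp eR.symm.toRingHom)
  obtain ⟨V, hRV, hIV⟩ := Ideal.image_subset_nonunits_valuationSubring I (RingHom.ker_ne_top _)
  have hnon : ∀ p : Polynomial A, π p = 0 → ar p ∈ V.nonunits := fun p hp => by
    refine hIV ⟨eR p, ?_, rfl⟩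
    show π (eR.symm (eR p)) = 0
    rw [RingEquiv.symm_apply_apply]; exact hp
  refine ⟨V, fun a => ?_, fun a ha => ?_, ?_⟩
  · have := hRV ⟨Polynomial.C a, rfl⟩
    simpa [ar] using this
  · have := hnon (Polynomial.C a) (by simp [π, ha])
    simpa [ar] using this
  · have := hnon Polynomial.X (by simp [π])
    simpa [ar] using this

/-- The coordinates of the singular point are algebraic over the coefficients. -/
theorem isAlgebraic_point [IsAlgClosed k] (hd : 2 ≤ d) {G₀ : MvPolynomial (Fin (n + 1)) k}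
    (hhom : G₀.IsHomogeneous d) (hsing : IsSingAt G₀ (vtx k n))
    (hG₀ : ∀ v : Fin (n + 1) → k, v ≠ 0 → v 0 = 0 → ¬ IsSingAt G₀ v) (i : Fin n) :
    IsAlgebraic (psi n d k).range (X (Sum.inl i) : MvPolynomial (Par n d) k) := by
  classical
  set B := MvPolynomial (Par n d) k
  set A := (psi n d k).range
  let K := FractionRing B
  let ι' : B →+* K := algebraMap B K
  have hι : Function.Injective ι' := IsFractionRing.injective B K
  rw [← isAlgebraic_algebraMap_iff (A := K) hι]
  by_contra htr
  let tK : Fin n → K := fun l => ι' (X (Sum.inl l))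
  let s : K := (tK i)⁻¹
  have hs : Function.Injective (Polynomial.aeval s : Polynomial A →ₐ[A] K) :=
    transcendental_iff_injective.1 fun h => htr (IsAlgebraic.inv_iff.1 h)
  -- the centre of the valuation
  let x₀ : Par n d → k := Sum.elim 0 fun γ => coeff γ.1.1 G₀
  let χ : A →+* k := (eval x₀).comp A.val.toRingHom
  obtain ⟨V, hAV, hker, hsV⟩ := exists_valuationSubring_center (ι'.comp A.val.toRingHom) s hs χ
  -- rescale the point
  let v : Fin (n + 1) → K := Fin.cons 1 tK
  obtain ⟨l₀, -, hmax⟩ := Finset.exists_max_image Finset.univ (fun l => V.valuation (v l)) Finset.univ_nonempty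
  have ht1 : 1 < V.valuation (tK i) := by
    have hti : tK i ≠ 0 := fun h => X_ne_zero _ (hι (h.trans (map_zero ι').symm))
    have := (V.mem_nonunits_iff).1 hsV
    rw [map_inv₀] at this
    exact (inv_lt_one₀ (lt_of_le_of_ne zero_le' ((V.valuation.ne_zero_iff.2 hti)).symm)).1 this
  have hl1 : 1 < V.valuation (v l₀) := lt_of_lt_of_le ht1 (by simpa [v] using hmax i.succ (Finset.mem_univ _))
  have hl0 : v l₀ ≠ 0 := fun h => by rw [h, map_zero] at hl1; exact not_lt_zero' hl1
  have huV : ∀ l, (v l₀)⁻¹ * v l ∈ V := fun l => by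
    rw [← V.valuation_le_one_iff, map_mul, map_inv₀, inv_mul_le_iff₀ (lt_trans zero_lt_one hl1), mul_one]
    exact hmax l (Finset.mem_univ _)
  let uV : Fin (n + 1) → V := fun l => ⟨_, huV l⟩
  -- the form over the valuation ring
  let cV : Expo n d → V := fun β => ⟨_, hAV ⟨psi n d k (X β), ⟨_, rfl⟩⟩⟩
  let GV : MvPolynomial (Fin (n + 1)) V := ∑ β : Expo n d, monomial β.1 (cV β)
  have hsum : ∀ (T : Type u) [CommRing T] (G : MvPolynomial (Fin (n + 1)) T), G.IsHomogeneous d →
      ∑ β : Expo n d, monomial β.1 (coeff β.1 G) = G := by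
    intro T _ G hG
    ext m
    rw [coeff_sum]
    by_cases hm : m.degree = d
    · rw [Finset.sum_eq_single (⟨m, hm⟩ : Expo n d) (fun b _ hb => by
        rw [coeff_monomial, if_neg fun h => hb (Subtype.ext h)]) (by simp), coeff_monomial, if_pos rfl]
    · rw [hG.coeff_eq_zero hm]
      exact Finset.sum_eq_zero fun b _ => by rw [coeff_monomial, if_neg]; rintro rfl; exact hm b.2
  have hGV : map V.subtype GV = map ι' (gb n d k) := by
    rw [← hsum K (map ι' (gb n d k)) (gb_isHomogeneous.map _), map_sum]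
    refine Finset.sum_congr rfl fun β _ => ?_
    rw [map_monomial, coeff_map]
    show monomial β.1 (ι' (psi n d k (X β))) = _
    rw [psi, aeval_X]
  have hsV' : IsSingAt GV uV := by
    have h1 : IsSingAt (map ι' (gb n d k)) fun l => (v l₀)⁻¹ * v l := by
      refine IsSingAt.smul (gb_isHomogeneous.map _) ?_ _
      have := (isSingAt_gb (n := n) (k := k) (by omega : 1 ≤ d)).map ι'
      convert this using 1
      funext l
      refine Fin.cases ?_ (fun m => ?_) l <;> simp [v, tK]
    rw [← hGV] at h1
    refine ⟨Subtype.val_injective ?_, fun j => Subtype.val_injective ?_⟩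
    · exact (eval_map_comp V.subtype GV uV).symm.trans h1.1
    · refine (eval_map_comp V.subtype _ uV).symm.trans ?_
      rw [← pderiv_map]; exact h1.2 j
  let res := IsLocalRing.residue V
  let φk : k →+* IsLocalRing.ResidueField V :=
    res.comp ((ι'.comp (algebraMap k B)).codRestrict V.toSubring fun c => hAV ⟨algebraMap k B c, A.algebraMap_mem c⟩)
  have hc : map res GV = map φk G₀ := by
    rw [← hsum _ (map φk G₀) (hhom.map _), map_sum]
    refine Finset.sum_congr rfl fun β _ => ?_
    rw [map_monomial, coeff_map]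
    congr 1
    have hψ : eval x₀ (psi n d k (X β)) = coeff β.1 G₀ := by
      rw [psi, aeval_X, ← coeff_map (eval x₀), map_gb]
      simp only [eval_X, x₀, Sum.elim_inl, Sum.elim_inr, Pi.zero_apply]
      have hid : ∀ H : MvPolynomial (Fin (n + 1)) k, tsub (fun _ => 0) H = H := fun H => by
        refine DFunLike.congr_fun (MvPolynomial.algHom_ext (A := MvPolynomial (Fin (n + 1)) k)
          (f := tsub fun _ => 0) (g := AlgHom.id k _) fun l => ?_) H
        refine Fin.cases ?_ (fun m => ?_) l <;> simp [tsub]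
      rw [hid, coeff_sum]
      by_cases hβ : β.1 0 < d - 1
      · rw [Finset.sum_eq_single (⟨β, hβ⟩ : WExp n d) (fun b _ hb => by
          rw [coeff_monomial, if_neg fun h => hb (Subtype.ext (Subtype.ext h))]) (by simp), coeff_monomial,
          if_pos rfl]
      · rw [(isSingAt_vtx_iff hhom (by omega)).1 hsing β.1 β.2 (not_lt.1 hβ)]
        exact Finset.sum_eq_zero fun b _ => by
          rw [coeff_monomial, if_neg]; intro h; exact hβ (h ▸ b.2)
    rw [show φk (coeff β.1 G₀) = res _ from rfl, ← sub_eq_zero, ← map_sub, IsLocalRing.residue_eq_zero_iff]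
    refine ValuationSubring.coe_mem_nonunits_iff.1 ?_
    have := hker (⟨psi n d k (X β), ⟨_, rfl⟩⟩ - algebraMap k A (coeff β.1 G₀)) (by
      show eval x₀ (psi n d k (X β) - algebraMap k B (coeff β.1 G₀)) = 0
      rw [map_sub, hψ, MvPolynomial.algebraMap_eq, eval_C, sub_self])
    convert this using 1
    simp [cV, map_sub]
    rfl
  have h0 : res (uV 0) = 0 := by
    rw [IsLocalRing.residue_eq_zero_iff, ← ValuationSubring.coe_mem_nonunits_iff, V.mem_nonunits_iff]
    show V.valuation ((v l₀)⁻¹ * v 0) < 1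
    rw [map_mul, map_inv₀, show v 0 = 1 from rfl, map_one, mul_one]
    exact inv_lt_one_of_one_lt₀ hl1
  have hlast := not_isSingAt_extension hG₀ φk (v := fun l => res (uV l)) h0 (hc ▸ hsV'.map res)
  have hone : uV l₀ = 1 := Subtype.ext (inv_mul_cancel₀ hl0)
  exact one_ne_zero (α := IsLocalRing.ResidueField V) ((map_one res).symm.trans ((congrArg res hone).symm.trans
    (congrFun hlast l₀)))

/-- All parameters are algebraic over the coefficients. -/
theorem isAlgebraic_psi_range [IsAlgClosed k] (hd : 2 ≤ d) {G₀ : MvPolynomial (Fin (n + 1)) k}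
    (hhom : G₀.IsHomogeneous d) (hsing : IsSingAt G₀ (vtx k n))
    (hG₀ : ∀ v : Fin (n + 1) → k, v ≠ 0 → v 0 = 0 → ¬ IsSingAt G₀ v) :
    Algebra.IsAlgebraic (psi n d k).range (MvPolynomial (Par n d) k) := by
  classical
  set B := MvPolynomial (Par n d) k
  set A := (psi n d k).range
  let S : Subalgebra A B := Subalgebra.algebraicClosure A B
  have ht : ∀ i, (X (Sum.inl i) : B) ∈ S := isAlgebraic_point hd hhom hsing hG₀
  have hc : ∀ β : Expo n d, coeff β.1 (gb n d k) ∈ S := fun β => by
    exact isAlgebraic_algebraMap (⟨_, ⟨X β, (show psi n d k (X β) = _ by rw [psi, aeval_X]; rfl)⟩⟩ : A)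
  have hw : ∀ γ : WExp n d, (X (Sum.inr γ) : B) ∈ S := fun γ => by
    let sv : S →+* B := S.val.toRingHom
    have hG : map sv (∑ β : Expo n d, monomial β.1 (⟨_, hc β⟩ : S)) = gb n d k := by
      rw [map_sum]
      refine MvPolynomial.ext _ _ fun m => ?_
      simp only [map_monomial, coeff_sum, coeff_monomial]
      by_cases hm : m.degree = d
      · rw [Finset.sum_eq_single (⟨m, hm⟩ : Expo n d) (fun b _ hb => if_neg fun h => hb (Subtype.ext h)) (by simp),
          if_pos rfl]
        rfl
      · rw [gb_isHomogeneous.coeff_eq_zero hm]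
        refine Finset.sum_eq_zero fun b _ => ?_
        rw [if_neg]
        intro h
        exact hm (h ▸ b.2)
    have h1 := congrArg (coeff γ.1.1) (map_tsub sv (fun i => -(⟨_, ht i⟩ : S))
      (∑ β : Expo n d, monomial β.1 (⟨_, hc β⟩ : S)))
    rw [hG, coeff_map] at h1
    have e : tsub (fun i => sv (-(⟨_, ht i⟩ : S))) (gb n d k) = gfw n d k := tsub_tsub_neg _ _
    rw [e, coeff_gfw] at h1
    rw [← h1]
    exact Subtype.mem _
  have hall : ∀ b : B, b ∈ S := fun b => by
    induction b using MvPolynomial.induction_on with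
    | C c => exact isAlgebraic_algebraMap (algebraMap k A c)
    | add p q hp hq => exact add_mem hp hq
    | mul_X p i hp => exact mul_mem hp (i.casesOn ht hw)
  exact ⟨hall⟩

/-- The vanishing ideal of the singular forms is principal. -/
theorem exists_ker_psi_eq_span [IsAlgClosed k] (hd : 2 ≤ d) {G₀ : MvPolynomial (Fin (n + 1)) k}
    (hhom : G₀.IsHomogeneous d) (hsing : IsSingAt G₀ (vtx k n))
    (hG₀ : ∀ v : Fin (n + 1) → k, v ≠ 0 → v 0 = 0 → ¬ IsSingAt G₀ v) :
    ∃ Δ, Irreducible Δ ∧ RingHom.ker (psi n d k) = Ideal.span {Δ} := by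
  classical
  set B := MvPolynomial (Par n d) k
  set A := (psi n d k).range
  have halg := isAlgebraic_psi_range hd hhom hsing hG₀
  have hA : Algebra.trdeg k A = (Fintype.card (Par n d) : Cardinal.{u}) := by
    have : FaithfulSMul A B := (faithfulSMul_iff_algebraMap_injective A B).2 Subtype.val_injective
    have h := trdeg_add_eq k A (A := B)
    rw [trdeg_eq_zero (R := A) (A := B), add_zero] at h
    rw [h, MvPolynomial.trdeg_of_isDomain, Cardinal.mk_fintype, Cardinal.lift_natCast]
  let e : Fin (Fintype.card (Expo n d)) ≃ Expo n d := (Fintype.equivFin _).symm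
  let re : MvPolynomial (Fin (Fintype.card (Expo n d))) k ≃ₐ[k] MvPolynomial (Expo n d) k := renameEquiv k e
  let ψ' := (psi n d k).comp re.toAlgHom
  let P := RingHom.ker ψ'
  have hP : P.IsPrime := RingHom.ker_isPrime ψ'
  have hrange : ψ'.range = A := by
    rw [AlgHom.range_comp, (AlgHom.range_eq_top re.toAlgHom).2 re.surjective, Algebra.map_top]
  have hq : _root_.Fano25.qdim P = Fintype.card (Par n d) := by
    have h1 : Algebra.trdeg k (MvPolynomial (Fin (Fintype.card (Expo n d))) k ⧸ P) = Algebra.trdeg k ψ'.range :=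
      (Ideal.quotientKerEquivRange ψ').trdeg_eq
    rw [_root_.Fano25.qdim, h1, hrange, hA, Cardinal.toNat_natCast]
  have hN := card_par (n := n) hd
  have hne : P ≠ ⊥ := fun h => by
    have h2 := _root_.Fano25.height_add_qdim P
    rw [hq, h, Ideal.height_bot, zero_add] at h2
    have : Fintype.card (Par n d) = Fintype.card (Expo n d) := by exact_mod_cast h2
    omega
  obtain ⟨f, hf, hf0⟩ := (Submodule.ne_bot_iff P).1 hne
  obtain ⟨fs, hfs, hprod⟩ := UniqueFactorizationMonoid.exists_prime_factors f hf0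
  obtain ⟨u, hu⟩ := hprod
  have : fs.prod ∈ P := by
    have := P.mul_mem_right (↑u⁻¹) hf
    rwa [← hu, mul_assoc, Units.mul_inv, mul_one] at this
  obtain ⟨g, hg, hgP⟩ := (hP.multiset_prod_mem_iff_exists_mem fs).1 this
  have hgp : Prime g := hfs g hg
  have hgI : (Ideal.span {g}).IsPrime := (Ideal.span_singleton_prime hgp.ne_zero).2 hgp
  have hle : Ideal.span {g} ≤ P := (Ideal.span_singleton_le_iff_mem _).2 hgP
  have hgd : _root_.Fano25.qdim (Ideal.span {g}) ≤ Fintype.card (Par n d) := by
    have h2 := _root_.Fano25.height_add_qdim (Ideal.span {g})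
    have h3 : (1 : ℕ∞) ≤ (Ideal.span {g}).height := by
      refine Order.one_le_iff_pos.2 (pos_iff_ne_zero.2 fun h0 => hgp.ne_zero ?_)
      rw [Ideal.height_eq_zero_iff_eq_bot, Ideal.span_singleton_eq_bot] at h0
      exact h0
    have h4 : (1 : ℕ∞) + _root_.Fano25.qdim (Ideal.span {g}) ≤ (Fintype.card (Expo n d) : ℕ∞) :=
      le_of_le_of_eq (add_le_add h3 le_rfl) h2
    rw [← Nat.cast_one, ← Nat.cast_add, Nat.cast_le] at h4
    omega
  have heq := _root_.Fano25.eq_of_qdim_le hle (hq ▸ hgd)
  refine ⟨re g, (MulEquiv.irreducible_iff re).2 hgp.irreducible, Ideal.ext fun x => ?_⟩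
  obtain ⟨y, rfl⟩ := re.surjective x
  rw [RingHom.mem_ker, Ideal.mem_span_singleton, map_dvd_iff, ← Ideal.mem_span_singleton, heq]
  rfl

end Groth.Agent.Fano25
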