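import Mathlib.RingTheory.MvPolynomial.Homogeneous
import Mathlib.RingTheory.MvPolynomial.EulerIdentity
import Mathlib.Algebra.MvPolynomial.PDeriv

/-!
Singular zeros of forms over commutative rings and translation to the first vertex.
-/

set_option autoImplicit false
universe u v w

open MvPolynomial

noncomputable section

namespace Groth.Agent.Fano25

variable {R : Type u} [CommRing R] {S : Type v} [CommRing S] {n d : ℕ}

/-- The first vertex. -/
def vtx (R : Type u) [CommRing R] (n : ℕ) : Fin (n + 1) → R := Pi.single 0 1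

/-- A singular zero. -/
def IsSingAt (G : MvPolynomial (Fin (n + 1)) R) (v : Fin (n + 1) → R) : Prop :=
  eval v G = 0 ∧ ∀ i, eval v (pderiv i G) = 0

theorem eval_map_comp (φ : R →+* S) (G : MvPolynomial (Fin (n + 1)) R) (v : Fin (n + 1) → R) :
    eval (fun i => φ (v i)) (map φ G) = φ (eval v G) := by
  rw [eval_map]
  exact (eval₂_comp φ v G).symm

theorem IsSingAt.map {G : MvPolynomial (Fin (n + 1)) R} {v : Fin (n + 1) → R} (h : IsSingAt G v) (φ : R →+* S) :
    IsSingAt (MvPolynomial.map φ G) fun i => φ (v i) :=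
  ⟨by rw [eval_map_comp, h.1, map_zero], fun i => by rw [pderiv_map, eval_map_comp, h.2 i, map_zero]⟩

/-- The chain rule. -/
theorem pderiv_aeval' {σ τ : Type*} [Fintype σ] (L : σ → MvPolynomial τ R) (j : τ) (f : MvPolynomial σ R) :
    pderiv j (aeval L f) = ∑ l, aeval L (pderiv l f) * pderiv j (L l) := by
  classical
  induction f using MvPolynomial.induction_on with
  | C a => simp
  | add p q hp hq => simp only [map_add, hp, hq, add_mul, Finset.sum_add_distrib]
  | mul_X p i hp =>
    simp only [map_mul, MvPolynomial.aeval_X, pderiv_mul, hp, Finset.sum_mul, map_add,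
      pderiv_X, add_mul, Finset.sum_add_distrib]
    congr 1
    · exact Finset.sum_congr rfl fun l _ => by ring
    · rw [Finset.sum_eq_single i]
      · simp
      · intro l _ hl; simp [Pi.single_eq_of_ne hl, Pi.single_eq_of_ne (Ne.symm hl)]
      · intro h; exact absurd (Finset.mem_univ i) h

/-- The substitution moving `(1, t)` to the first vertex. -/
def tsub (t : Fin n → R) : MvPolynomial (Fin (n + 1)) R →ₐ[R] MvPolynomial (Fin (n + 1)) R :=
  aeval (Fin.cases (X 0) fun i => X i.succ - C (t i) * X 0)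

/-- The substitution on points. -/
def tpt (t : Fin n → R) (v : Fin (n + 1) → R) : Fin (n + 1) → R :=
  Fin.cases (v 0) fun i => v i.succ - t i * v 0

theorem eval_tsub (t : Fin n → R) (G : MvPolynomial (Fin (n + 1)) R) (v : Fin (n + 1) → R) :
    eval v (tsub t G) = eval (tpt t v) G := by
  induction G using MvPolynomial.induction_on with
  | C a => simp [tsub]
  | add p q hp hq => simp only [map_add, hp, hq]
  | mul_X p i hp =>
    simp only [map_mul, hp, eval_X]
    congr 1
    rw [tsub, MvPolynomial.aeval_X]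
    refine Fin.cases ?_ (fun j => ?_) i <;> simp [tpt]

theorem tsub_tsub_neg (t : Fin n → R) (G : MvPolynomial (Fin (n + 1)) R) : tsub (-t) (tsub t G) = G := by
  refine DFunLike.congr_fun (MvPolynomial.algHom_ext (A := MvPolynomial (Fin (n + 1)) R)
    (f := (tsub (-t)).comp (tsub t)) (g := AlgHom.id R _) fun i => ?_) G
  refine Fin.cases ?_ (fun j => ?_) i <;> simp [tsub]

theorem tsub_isHomogeneous (t : Fin n → R) {G : MvPolynomial (Fin (n + 1)) R} (hG : G.IsHomogeneous d) :
    (tsub t G).IsHomogeneous d := by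
  have := hG.aeval (R := R) (Fin.cases (X 0) fun i => X i.succ - C (t i) * X 0 :
    Fin (n + 1) → MvPolynomial (Fin (n + 1)) R) (n := 1) (fun i => by
      refine Fin.cases ?_ (fun j => ?_) i
      · exact isHomogeneous_X _ _
      · simp only [Fin.cases_succ]
        exact (isHomogeneous_X _ _).sub (isHomogeneous_C_mul_X _ _))
  rwa [one_mul] at this

theorem map_tsub (φ : R →+* S) (t : Fin n → R) (G : MvPolynomial (Fin (n + 1)) R) :
    map φ (tsub t G) = tsub (fun i => φ (t i)) (map φ G) := by
  induction G using MvPolynomial.induction_on with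
  | C a => simp [tsub]
  | add p q hp hq => simp only [map_add, hp, hq]
  | mul_X p i hp =>
    simp only [map_mul, hp, MvPolynomial.map_X]
    congr 1
    simp only [tsub, MvPolynomial.aeval_X]
    refine Fin.cases ?_ (fun j => ?_) i <;> simp

theorem IsSingAt.tsub {G : MvPolynomial (Fin (n + 1)) R} {t : Fin n → R} {v : Fin (n + 1) → R}
    (h : IsSingAt G (tpt t v)) : IsSingAt (Fano25.tsub t G) v := by
  refine ⟨by rw [eval_tsub, h.1], fun i => ?_⟩
  rw [Fano25.tsub, pderiv_aeval', map_sum]
  refine Finset.sum_eq_zero fun l _ => ?_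
  rw [map_mul, show eval v (aeval _ (pderiv l G)) = eval (tpt t v) (pderiv l G) from eval_tsub t _ v, h.2 l,
    zero_mul]

theorem tpt_vtx (t : Fin n → R) : tpt t (Fin.cons 1 t) = vtx R n := by
  funext i
  refine Fin.cases ?_ (fun j => ?_) i
  · simp [tpt, vtx]
  · simp [tpt, vtx, Fin.succ_ne_zero]

theorem tpt_neg_vtx (t : Fin n → R) : tpt (-t) (vtx R n) = Fin.cons 1 t := by
  funext i
  refine Fin.cases ?_ (fun j => ?_) i
  · simp [tpt, vtx]
  · simp [tpt, vtx, Fin.succ_ne_zero]

theorem eval_vtx {G : MvPolynomial (Fin (n + 1)) R} {e : ℕ} (hG : G.IsHomogeneous e) :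
    eval (vtx R n) G = coeff (Finsupp.single 0 e) G := by
  classical
  rw [eval_eq']
  have key : ∀ m ∈ G.support, m ≠ Finsupp.single 0 e → ∏ i, vtx R n i ^ m i = 0 := by
    intro m hm hne
    have hdeg : m.degree = e := by
      by_contra h
      exact mem_support_iff.1 hm (hG.coeff_eq_zero h)
    obtain ⟨i, hi0, hi⟩ : ∃ i : Fin (n + 1), i ≠ 0 ∧ m i ≠ 0 := by
      by_contra hc
      push Not at hc
      refine hne (Finsupp.ext fun j => ?_)
      rw [Finsupp.degree_apply, Finset.sum_eq_single 0 (fun j _ hj => hc j hj) (by simp)] at hdeg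
      rcases eq_or_ne j 0 with rfl | hj
      · simp [hdeg]
      · simp [hc j hj, Finsupp.single_eq_of_ne hj]
    refine Finset.prod_eq_zero (Finset.mem_univ i) ?_
    rw [vtx, Pi.single_eq_of_ne hi0, zero_pow hi]
  rw [Finset.sum_eq_single (Finsupp.single 0 e) (fun m hm hne => by rw [key m hm hne, mul_zero])
    (fun h => by rw [notMem_support_iff.1 h, zero_mul])]
  rw [Finset.prod_eq_single (0 : Fin (n + 1)) (fun j _ hj => by simp [Finsupp.single_eq_of_ne hj])
    (fun h => absurd (Finset.mem_univ _) h)]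
  simp [vtx]

theorem coeff_pderiv_vtx (G : MvPolynomial (Fin (n + 1)) R) (i : Fin n) (hd : 1 ≤ d) :
    coeff (Finsupp.single 0 (d - 1)) (pderiv i.succ G) =
      coeff (Finsupp.single 0 (d - 1) + Finsupp.single i.succ 1) G := by
  rw [coeff_pderiv, Finsupp.single_eq_of_ne (Fin.succ_ne_zero i), Nat.cast_zero, zero_add, mul_one]

theorem special_cases {γ : Fin (n + 1) →₀ ℕ} (hγ : γ.degree = d) (h : d - 1 ≤ γ 0) :
    γ = Finsupp.single 0 d ∨ ∃ i : Fin n, γ = Finsupp.single 0 (d - 1) + Finsupp.single i.succ 1 := by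
  classical
  rw [Finsupp.degree_apply, Finset.sum_subset (Finset.subset_univ γ.support) (by simp), Fin.sum_univ_succ] at hγ
  rcases Nat.eq_zero_or_pos (∑ i : Fin n, γ i.succ) with h0 | hpos
  · refine .inl (Finsupp.ext fun j => ?_)
    refine Fin.cases ?_ (fun i => ?_) j
    · rw [Finsupp.single_eq_same]; omega
    · rw [Finsupp.single_eq_of_ne (Fin.succ_ne_zero i)]
      exact (Finset.sum_eq_zero_iff.1 h0 i (Finset.mem_univ _))
  · have h1 : ∑ i : Fin n, γ i.succ = 1 := by omega
    obtain ⟨i, -, hi⟩ := Finset.exists_ne_zero_of_sum_ne_zero (show ∑ i : Fin n, γ i.succ ≠ 0 by omega)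
    have hle := Finset.single_le_sum (f := fun i : Fin n => γ i.succ) (fun _ _ => Nat.zero_le _) (Finset.mem_univ i)
    refine .inr ⟨i, Finsupp.ext fun j => ?_⟩
    refine Fin.cases ?_ (fun l => ?_) j
    · rw [Finsupp.add_apply, Finsupp.single_eq_same, Finsupp.single_eq_of_ne (Fin.succ_ne_zero i).symm]
      omega
    · rw [Finsupp.add_apply, Finsupp.single_eq_of_ne (Fin.succ_ne_zero l), zero_add]
      rcases eq_or_ne l i with rfl | hne
      · rw [Finsupp.single_eq_same]; omega
      · rw [Finsupp.single_eq_of_ne (fun h => hne (Fin.succ_inj.1 h))]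
        have := Finset.add_le_sum (f := fun i : Fin n => γ i.succ) (fun _ _ => Nat.zero_le _)
          (Finset.mem_univ l) (Finset.mem_univ i) hne
        omega

/-- Being singular at the first vertex kills exactly the special coefficients. -/
theorem isSingAt_vtx_iff {H : MvPolynomial (Fin (n + 1)) R} (hH : H.IsHomogeneous d) (hd : 1 ≤ d) :
    IsSingAt H (vtx R n) ↔ ∀ γ : Fin (n + 1) →₀ ℕ, γ.degree = d → d - 1 ≤ γ 0 → coeff γ H = 0 := by
  constructor
  · intro h γ hγ hγ0
    rcases special_cases hγ hγ0 with rfl | ⟨i, rfl⟩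
    · rw [← eval_vtx hH]; exact h.1
    · rw [← coeff_pderiv_vtx H i hd, ← eval_vtx hH.pderiv]; exact h.2 i.succ
  · intro h
    have h0 : coeff (Finsupp.single 0 d) H = 0 := h _ (by simp) (by simp)
    refine ⟨by rw [eval_vtx hH, h0], fun j => ?_⟩
    refine Fin.cases ?_ (fun i => ?_) j
    · rw [eval_vtx hH.pderiv, coeff_pderiv, ← Finsupp.single_add, show d - 1 + 1 = d by omega, h0, zero_mul]
    · rw [eval_vtx hH.pderiv, coeff_pderiv_vtx H i hd]
      refine h _ ?_ ?_
      · rw [map_add, Finsupp.degree_single, Finsupp.degree_single]; omega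
      · simp

theorem isSingAt_tsub {H : MvPolynomial (Fin (n + 1)) R} (t : Fin n → R) (h : IsSingAt H (vtx R n)) :
    IsSingAt (tsub t H) (Fin.cons 1 t) :=
  IsSingAt.tsub (t := t) (by rw [tpt_vtx]; exact h)

theorem isSingAt_tsub_neg {G : MvPolynomial (Fin (n + 1)) R} (t : Fin n → R) (h : IsSingAt G (Fin.cons 1 t)) :
    IsSingAt (tsub (-t) G) (vtx R n) :=
  IsSingAt.tsub (t := -t) (by rw [tpt_neg_vtx]; exact h)

end Groth.Agent.Fano25
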