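import Groth.Agent.Fano25.Deriv
import Mathlib.RingTheory.MvPolynomial.EulerIdentity

/-! Generic smoothness for a linear system containing enough test forms. -/

open MvPolynomial Module

namespace Fano25

universe u

variable {k : Type u} [Field k] [Infinite k] {n d r s : ℕ}

theorem isGeneric_smooth_of_testForms (b : Basis (Fin r ⊕ Fin s) k (Fin (n + 1) → k)) (hU : r ≤ s) (hd : 2 ≤ d)
    {V : Type u} [AddCommGroup V] [Module k V] {J : Type} [Fintype J] (bW : Basis J k V)
    (inc : V →ₗ[k] MvPolynomial (Fin (n + 1)) k) (hhom' : ∀ G, (inc G).IsHomogeneous d)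
    (hT : ∀ i m, ((∃ c, i = Sum.inr c) ∨ ∃ c, m = Sum.inr c) →
      ∃ G, inc G = Fano25.ell b i ^ (d - 1) * Fano25.ell b m) :
    LefPen.IsGeneric k {G : V | ∀ v : Fin (n + 1) → k, v ≠ 0 → MvPolynomial.eval v (inc G) = 0 →
      ∃ i : Fin (n + 1), MvPolynomial.eval v (MvPolynomial.pderiv i (inc G)) ≠ 0} := by
  classical
  have hrs : r + s = n + 1 := by
    have := Module.finrank_eq_card_basis b
    simp at this
    omega
  let e1 : (c : Fin s) → {m : Fin r ⊕ Fin s // m ≠ Sum.inr c} → Fin r ⊕ Fin s := fun _ m => m.1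
  let e2 : (a : Fin r) → {m : Fin r // m ≠ a} → Fin r ⊕ Fin s := fun _ m => Sum.inl m.1
  have he2 : ∀ (a : Fin r) m, e2 a m ≠ Sum.inl a := fun a m h => m.2 (Sum.inl_injective h)
  let L1 : (c : Fin s) → Option {m : Fin r ⊕ Fin s // m ≠ Sum.inr c} →
      V →ₗ[k] MvPolynomial {m : Fin r ⊕ Fin s // m ≠ Sum.inr c} k := fun c o =>
    (MvPolynomial.aeval (Fano25.affPt b (Sum.inr c) (e1 c))).toLinearMap ∘ₗ
      (o.elim LinearMap.id fun m => Fano25.dirD (b m.1)) ∘ₗ inc
  let L2 : (a : Fin r) → Fin s → V →ₗ[k] MvPolynomial {m : Fin r // m ≠ a} k := fun a c =>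
    (MvPolynomial.aeval (Fano25.affPt b (Sum.inl a) (e2 a))).toLinearMap ∘ₗ Fano25.dirD (b (Sum.inr c)) ∘ₗ inc
  have h1 : ∀ c x, LinearIndependent k (fun o => fun j => MvPolynomial.eval x (L1 c o (bW j))) := by
    intro c x
    refine Fano25.li_eval bW (L1 c) x fun g hg => ?_
    set v := fun l => MvPolynomial.eval x (Fano25.affPt b (Sum.inr c) (e1 c) l) with hv
    have hvi : b.repr v (Sum.inr c) = 1 := Fano25.repr_affPt_self b _ _ (fun m => m.2) x
    have hrow : ∀ m (o : Option {m : Fin r ⊕ Fin s // m ≠ Sum.inr c}),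
        MvPolynomial.eval x (L1 c o (hT (Sum.inr c) m (Or.inl ⟨c, rfl⟩)).choose) =
          o.elim (b.repr v m) (fun q => if q.1 = m then 1 else 0) := by
      intro m o
      show MvPolynomial.eval x (MvPolynomial.aeval (Fano25.affPt b (Sum.inr c) (e1 c))
        ((o.elim LinearMap.id fun q => Fano25.dirD (b q.1)) (inc _))) = _
      rw [Fano25.eval_aeval_point, ← hv]
      cases o with
      | none => simp [(hT (Sum.inr c) m (Or.inl ⟨c, rfl⟩)).choose_spec, Fano25.eval_ell, hvi]
      | some q =>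
        simp only [Option.elim, (hT (Sum.inr c) m (Or.inl ⟨c, rfl⟩)).choose_spec, Fano25.dirD_mul]
        rw [Fano25.dirD_pow_eq_zero _ _ (by rw [Fano25.dirD_ell_self, if_neg q.2]), Fano25.dirD_ell_self]
        simp [Fano25.eval_ell, hvi, apply_ite (MvPolynomial.eval v)]
    have hnone : g none = 0 := by
      have h0 := hg (hT (Sum.inr c) (Sum.inr c) (Or.inl ⟨c, rfl⟩)).choose
      simp only [hrow, Fintype.sum_option, Option.elim, hvi, mul_one] at h0
      rwa [Finset.sum_eq_zero (fun q _ => by rw [if_neg q.2, mul_zero]), add_zero] at h0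
    funext o
    cases o with
    | none => exact hnone
    | some m =>
      have h0 := hg (hT (Sum.inr c) m.1 (Or.inl ⟨c, rfl⟩)).choose
      simpa [hrow, Fintype.sum_option, hnone, ← Subtype.ext_iff] using h0
  have h2 : ∀ a x, LinearIndependent k (fun o => fun j => MvPolynomial.eval x (L2 a o (bW j))) := by
    intro a x
    refine Fano25.li_eval bW (L2 a) x fun g hg => ?_
    funext c
    set v := fun l => MvPolynomial.eval x (Fano25.affPt b (Sum.inl a) (e2 a) l) with hv
    have hrow : ∀ o : Fin s, MvPolynomial.eval x (L2 a o (hT (Sum.inl a) (Sum.inr c) (Or.inr ⟨c, rfl⟩)).choose) =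
        if o = c then 1 else 0 := by
      intro o
      show MvPolynomial.eval x (MvPolynomial.aeval (Fano25.affPt b (Sum.inl a) (e2 a))
        (Fano25.dirD (b (Sum.inr o)) (inc _))) = _
      rw [Fano25.eval_aeval_point, ← hv]
      simp only [(hT (Sum.inl a) (Sum.inr c) (Or.inr ⟨c, rfl⟩)).choose_spec, Fano25.dirD_mul]
      rw [Fano25.dirD_pow_eq_zero _ _ (by rw [Fano25.dirD_ell_self, if_neg Sum.inr_ne_inl]), Fano25.dirD_ell_self]
      simp [Fano25.eval_ell, show b.repr v (Sum.inl a) = 1 from Fano25.repr_affPt_self b _ _ (he2 a) x,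
        apply_ite (MvPolynomial.eval v)]
    have h0 := hg (hT (Sum.inl a) (Sum.inr c) (Or.inr ⟨c, rfl⟩)).choose
    simpa [hrow] using h0
  have hg1 := Fano25.IsGeneric.iInter bW fun c : Fin s => Fano25.isGeneric_incidence_empty bW (L1 c)
    (by rw [Fintype.card_option]; omega)
  have hg2 := Fano25.IsGeneric.iInter bW fun a : Fin r => Fano25.isGeneric_incidence_empty bW (L2 a)
    (by rw [Fintype.card_subtype_compl, Fintype.card_subtype_eq, Fintype.card_fin, Fintype.card_fin]
        have := a.isLt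
        omega)
  refine Fano25.IsGeneric.mono (Fano25.IsGeneric.iInter bW (ι := Bool) (S := fun t => cond t _ _)
    (fun t => by cases t; exacts [hg2, hg1])) fun G hG v hv hGv => ?_
  rw [Set.mem_iInter] at hG
  have hG1 := hG true
  have hG2 := hG false
  simp only [Bool.cond_true, Bool.cond_false, Set.mem_iInter] at hG1 hG2
  by_contra hne
  push Not at hne
  have hhom : (inc G).IsHomogeneous d := hhom' G
  have hDv : ∀ (a : k) w, MvPolynomial.eval (a • v) (Fano25.dirD w (inc G)) = 0 := fun a w => by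
    rw [Fano25.dirD_apply, map_sum]
    refine Finset.sum_eq_zero fun l _ => ?_
    rw [map_mul, Fano25.eval_smul_point hhom.pderiv, hne l, mul_zero, mul_zero]
  by_cases hout : ∃ c : Fin s, b.repr v (Sum.inr c) ≠ 0
  · obtain ⟨c, hc⟩ := hout
    set a := (b.repr v (Sum.inr c))⁻¹
    set x : {m : Fin r ⊕ Fin s // m ≠ Sum.inr c} → k := fun m => b.repr (a • v) (e1 c m)
    have hx : (fun l => MvPolynomial.eval x (Fano25.affPt b (Sum.inr c) (e1 c) l)) = a • v :=
      Fano25.affPt_eq b _ _ Subtype.val_injective (fun m => m.2) _ (by simp [a, inv_mul_cancel₀ hc])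
        (fun j hj hj' => absurd ⟨⟨j, hj⟩, rfl⟩ hj')
    refine Set.mem_iInter.mp hG1 c x (h1 c x) fun o => ?_
    show MvPolynomial.eval x (MvPolynomial.aeval (Fano25.affPt b (Sum.inr c) (e1 c))
      ((o.elim LinearMap.id fun m => Fano25.dirD (b m.1)) (inc G))) = 0
    rw [Fano25.eval_aeval_point, hx]
    cases o with
    | none =>
      show MvPolynomial.eval (a • v) (inc G) = 0
      rw [Fano25.eval_smul_point hhom, hGv, mul_zero]
    | some m => exact hDv a _
  · push Not at hout
    obtain ⟨a0, ha0⟩ : ∃ a0 : Fin r, b.repr v (Sum.inl a0) ≠ 0 := by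
      by_contra h
      push Not at h
      apply hv
      apply b.repr.injective
      ext (j | j)
      · simp [h j]
      · simp [hout j]
    set a := (b.repr v (Sum.inl a0))⁻¹
    set x : {m : Fin r // m ≠ a0} → k := fun m => b.repr (a • v) (e2 a0 m)
    have hx : (fun l => MvPolynomial.eval x (Fano25.affPt b (Sum.inl a0) (e2 a0) l)) = a • v := by
      refine Fano25.affPt_eq b _ _ (Sum.inl_injective.comp Subtype.val_injective) (he2 a0) _
        (by simp [a, inv_mul_cancel₀ ha0]) ?_
      rintro (j | j) hj hj'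
      · exact absurd ⟨⟨j, fun h => hj (congrArg Sum.inl h)⟩, rfl⟩ hj'
      · simp [hout j]
    refine Set.mem_iInter.mp hG2 a0 x (h2 a0 x) fun o => ?_
    show MvPolynomial.eval x (MvPolynomial.aeval (Fano25.affPt b (Sum.inl a0) (e2 a0))
      (Fano25.dirD (b (Sum.inr o)) (inc G))) = 0
    rw [Fano25.eval_aeval_point, hx]
    exact hDv a _

end Fano25
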