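import Groth.Agent.Fano25.DiscrAlg
import Groth.Agent.An92.Lef.Elim
import Groth.Agent.An92.Lef.Open
import Groth.Agent.S14373

/-!
The singular forms are the zero set of one irreducible polynomial.
-/

set_option autoImplicit false
universe u

open MvPolynomial
open Groth.Agent.An92.Lef (Expo formCoeff formEquiv spec genForm eval_genForm isPolyFun_eval exists_elim sum_formCoeff monoForm exists_eval_ne_zero)

noncomputable section

namespace Groth.Agent.Fano25

variable {k : Type u} [Field k] {n d : ℕ}

/-- The form is singular. -/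
def IsSingForm (G : LefPen.Form n k d) : Prop := ∃ v : Fin (n + 1) → k, v ≠ 0 ∧ IsSingAt G.1 v

/-- A form singular at the first vertex with no singular point on the opposite hyperplane. -/
theorem exists_cone [IsAlgClosed k] (hn : 1 ≤ n) (hd : 2 ≤ d) :
    ∃ G₀ : MvPolynomial (Fin (n + 1)) k, G₀.IsHomogeneous d ∧ IsSingAt G₀ (vtx k n) ∧
      ∀ v : Fin (n + 1) → k, v ≠ 0 → v 0 = 0 → ¬ IsSingAt G₀ v := by
  classical
  obtain ⟨m, rfl⟩ : ∃ m, n = m + 1 := ⟨n - 1, by omega⟩
  obtain ⟨f, -, ⟨F, hF⟩, hFsm⟩ := S14373.result k m d hd ⊥ (by simp) ⊤ (fun G => by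
    simp only [Submodule.mem_top, true_iff, Submodule.mem_bot, forall_eq]
    rw [MvPolynomial.eval_zero, constantCoeff_eq,
      (show G.1.IsHomogeneous d from G.2).coeff_eq_zero (by simp; omega)])
  have hsm := hFsm F hF
  have hFh : F.1.1.IsHomogeneous d := F.1.2
  have hh : (rename Fin.succ F.1.1).IsHomogeneous d := hFh.rename_isHomogeneous
  refine ⟨rename Fin.succ F.1.1, hh, (isSingAt_vtx_iff hh (by omega)).2 fun γ _ hγ0 => ?_, fun v hv hv0 h => ?_⟩
  · refine coeff_rename_eq_zero _ _ _ fun u hu => ?_
    have h0 : γ 0 = 0 := by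
      rw [← hu]; exact Finsupp.mapDomain_notin_range _ _ (by simp)
    omega
  · obtain ⟨i, hi⟩ := hsm (fun j => v j.succ) (fun e => hv (funext fun l => Fin.cases hv0 (fun j => congrFun e j) l))
      ((eval_rename (k := Fin.succ) (g := v) (p := F.1.1)).symm.trans h.1)
    refine hi ?_
    have h2 := h.2 i.succ
    rw [pderiv_rename (Fin.succ_injective _), eval_rename] at h2
    exact h2

theorem formCoeff_eq (G : LefPen.Form n k d) (β : Expo n d) : formCoeff β G = coeff β.1 G.1 := rfl

/-- The members of the vanishing ideal vanish on forms singular off the hyperplane. -/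
theorem eval_eq_zero_of_ker (hd : 2 ≤ d) {P : MvPolynomial (Expo n d) k} (hP : psi n d k P = 0)
    (G : LefPen.Form n k d) {v : Fin (n + 1) → k} (hv0 : v 0 ≠ 0) (h : IsSingAt G.1 v) :
    eval (fun β => formCoeff β G) P = 0 := by
  classical
  let t : Fin n → k := fun i => (v 0)⁻¹ * v i.succ
  have hG : G.1.IsHomogeneous d := G.2
  have h' : IsSingAt G.1 (Fin.cons 1 t) := by
    have := h.smul hG (v 0)⁻¹
    convert this using 1
    funext l
    refine Fin.cases ?_ (fun i => ?_) l
    · simp [inv_mul_cancel₀ hv0]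
    · simp [t]
  let H := tsub (-t) G.1
  have hH : H.IsHomogeneous d := tsub_isHomogeneous _ hG
  have hspec := (isSingAt_vtx_iff hH (by omega : 1 ≤ d)).1 (isSingAt_tsub_neg t h')
  let x : Par n d → k := Sum.elim t fun γ => coeff γ.1.1 H
  have hHw : ∑ γ : WExp n d, monomial γ.1.1 (coeff γ.1.1 H) = H := by
    refine MvPolynomial.ext _ _ fun m => ?_
    rw [coeff_sum]
    by_cases hm : m.degree = d
    · by_cases hm0 : m 0 < d - 1
      · rw [Finset.sum_eq_single (⟨⟨m, hm⟩, hm0⟩ : WExp n d) (fun b _ hb => by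
          rw [coeff_monomial, if_neg fun h => hb (Subtype.ext (Subtype.ext h))]) (by simp), coeff_monomial, if_pos rfl]
      · rw [hspec m hm (not_lt.1 hm0)]
        refine Finset.sum_eq_zero fun b _ => ?_
        rw [coeff_monomial, if_neg]
        intro h; exact hm0 (h ▸ b.2)
    · rw [hH.coeff_eq_zero hm]
      refine Finset.sum_eq_zero fun b _ => ?_
      rw [coeff_monomial, if_neg]
      intro h; exact hm (h ▸ b.1.2)
  have hev : (fun β : Expo n d => formCoeff β G) = fun β : Expo n d => eval x (psi n d k (X β)) := by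
    funext β
    rw [formCoeff_eq, psi, aeval_X, ← coeff_map (eval x), map_gb]
    simp only [eval_X, x, Sum.elim_inl, Sum.elim_inr, hHw, H]
    congr 1
    conv_lhs => rw [← tsub_tsub_neg (-t) G.1, neg_neg]
  rw [hev]
  have := congrArg (eval x) hP
  rw [map_zero] at this
  rw [← this]
  conv_rhs => rw [← aeval_X_left_apply P]
  rw [← aeval_eq_eval, ← aeval_eq_eval, ← AlgHom.comp_apply, ← AlgHom.comp_apply, comp_aeval]
  rfl

/-- The members of the vanishing ideal vanish on all singular forms. -/
theorem eval_eq_zero_of_isSingForm [Infinite k] (hd : 2 ≤ d) {P : MvPolynomial (Expo n d) k}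
    (hP : psi n d k P = 0) (G : LefPen.Form n k d) (h : IsSingForm G) :
    eval (fun β => formCoeff β G) P = 0 := by
  classical
  obtain ⟨v, hv, hs⟩ := h
  by_cases hv0 : v 0 ≠ 0
  · exact eval_eq_zero_of_ker hd hP G hv0 hs
  push Not at hv0
  obtain ⟨j, hj⟩ := Function.ne_iff.1 hv
  let L : Fin (n + 1) → MvPolynomial (Fin (n + 1)) (Polynomial k) :=
    fun l => if l = 0 then X 0 - C (Polynomial.C (v j)⁻¹ * Polynomial.X) * X j else X l
  let Gs := aeval L (map Polynomial.C G.1)
  let q : Polynomial k := eval₂ Polynomial.C (fun β : Expo n d => coeff β.1 Gs) P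
  have key : ∀ s : k, ∃ Gk : LefPen.Form n k d, IsSingAt Gk.1 (fun l => if l = 0 then s else v l) ∧
      q.eval s = eval (fun β => formCoeff β Gk) P ∧ (s = 0 → Gk = G) := by
    intro s
    let Ls : Fin (n + 1) → MvPolynomial (Fin (n + 1)) k :=
      fun l => if l = 0 then X 0 - C ((v j)⁻¹ * s) * X j else X l
    have hG : G.1.IsHomogeneous d := G.2
    have hh : (aeval Ls G.1).IsHomogeneous d := by
      have := hG.aeval (R := k) Ls (n := 1) (fun l => by
        simp only [Ls]
        split_ifs
        · exact (isHomogeneous_X _ _).sub (isHomogeneous_C_mul_X _ _)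
        · exact isHomogeneous_X _ _)
      rwa [one_mul] at this
    refine ⟨⟨aeval Ls G.1, (mem_homogeneousSubmodule _ _).2 hh⟩, ?_, ?_, fun hs0 => Subtype.ext ?_⟩
    · have hev : ∀ g : MvPolynomial (Fin (n + 1)) k,
          eval (fun l => if l = 0 then s else v l) (aeval Ls g) = eval v g := by
        intro g
        induction g using MvPolynomial.induction_on with
        | C a => simp
        | add p q hp hq => simp only [map_add, hp, hq]
        | mul_X p i hp =>
          simp only [map_mul, hp, eval_X, aeval_X]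
          congr 1
          simp only [Ls]
          split_ifs with hi
          · subst hi
            have hj0 : j ≠ 0 := fun e => hj (by rw [e, hv0]; rfl)
            simp [hj0, hv0]
            field_simp [show v j ≠ 0 from hj]
            ring
          · simp [hi]
      refine ⟨by rw [hev]; exact hs.1, fun i => ?_⟩
      rw [pderiv_aeval', map_sum]
      exact Finset.sum_eq_zero fun l _ => by rw [map_mul, hev, hs.2 l, zero_mul]
    · show (Polynomial.evalRingHom s) (eval₂Hom Polynomial.C _ P) = _
      rw [MvPolynomial.map_eval₂Hom]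
      have hc : (Polynomial.evalRingHom s).comp Polynomial.C = RingHom.id k := RingHom.ext fun a => by simp
      rw [hc]
      show eval (fun β : Expo n d => Polynomial.evalRingHom s (coeff β.1 Gs)) P = _
      congr 1
      congr 1
      funext β
      rw [← coeff_map, formCoeff_eq]
      congr 1
      show map (Polynomial.evalRingHom s) (aeval L (map Polynomial.C G.1)) = aeval Ls G.1
      induction G.1 using MvPolynomial.induction_on with
      | C a => simp
      | add p q hp hq => simp only [map_add, hp, hq]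
      | mul_X p i hp =>
        simp only [map_mul, hp, MvPolynomial.map_X, aeval_X]
        congr 1
        simp only [L, Ls]
        split_ifs <;> simp
    · show aeval Ls G.1 = G.1
      conv_rhs => rw [← aeval_X_left_apply G.1]
      congr 2
      funext l
      simp only [Ls, hs0, mul_zero, map_zero, zero_mul, sub_zero]
      split_ifs with hl
      · rw [hl]
      · rfl
  have hq : q = 0 := by
    refine Polynomial.eq_zero_of_infinite_isRoot q (((Set.finite_singleton (0 : k)).infinite_compl).mono ?_)
    intro s hs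
    obtain ⟨Gk, hGk, hev, -⟩ := key s
    show q.eval s = 0
    rw [hev]
    exact eval_eq_zero_of_ker hd hP Gk (by simpa using hs) hGk
  obtain ⟨Gk, -, hev, h0⟩ := key 0
  rw [hq, Polynomial.eval_zero, h0 rfl] at hev
  exact hev.symm

/-- A form that is not singular is outside the zero set of the vanishing ideal. -/
theorem exists_ker_eval_ne_zero [IsAlgClosed k] (hd : 2 ≤ d) (G : LefPen.Form n k d) (h : ¬ IsSingForm G) :
    ∃ P, psi n d k P = 0 ∧ eval (fun β => formCoeff β G) P ≠ 0 := by
  classical
  let Z : (Fin (n + 1) → k) → (Expo n d → k) → Prop := fun v c =>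
    v ≠ 0 ∧ IsSingAt (formEquiv.symm c : LefPen.Form n k d).1 v
  have hgf : ∀ c : Expo n d → k, spec c (genForm n d k) = (formEquiv.symm c : LefPen.Form n k d).1 := fun c => by
    rw [← eval_genForm (formEquiv.symm c : LefPen.Form n k d),
      show (fun β => formCoeff β (formEquiv.symm c : LefPen.Form n k d)) = c from formEquiv.apply_symm_apply c]
  have hgh : (genForm n d k).IsHomogeneous d := IsHomogeneous.sum _ _ _ fun β _ => isHomogeneous_monomial _ β.2
  have hsep : ∀ v₀ c₀, v₀ ≠ 0 → ¬ Z v₀ c₀ → ∃ (e : ℕ) (F : MvPolynomial (Fin (n + 1)) (MvPolynomial (Expo n d) k)),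
      F.IsHomogeneous e ∧ (∀ v c, Z v c → eval v (spec c F) = 0) ∧ eval v₀ (spec c₀ F) ≠ 0 := by
    intro v₀ c₀ hv₀ hZ
    by_cases h0 : eval v₀ (spec c₀ (genForm n d k)) = 0
    · obtain ⟨i, hi⟩ : ∃ i, eval v₀ (spec c₀ (pderiv i (genForm n d k))) ≠ 0 := by
        by_contra hc
        push Not at hc
        refine hZ ⟨hv₀, by rw [← hgf]; exact h0, fun i => ?_⟩
        rw [← hgf, spec, pderiv_map]; exact hc i
      refine ⟨_, pderiv i (genForm n d k), hgh.pderiv, fun v c hvc => ?_, hi⟩
      rw [spec, ← pderiv_map]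
      exact (show IsSingAt (spec c (genForm n d k)) v by rw [hgf]; exact hvc.2).2 i
    · exact ⟨d, genForm n d k, hgh, fun v c hvc => by rw [hgf]; exact hvc.2.1, h0⟩
  obtain ⟨P, hP0, hP⟩ := exists_elim Z (fun v c hvc => hvc.1) hsep (fun β => formCoeff β G) fun v hvc => h
    ⟨v, hvc.1, by
      have := hvc.2
      rwa [show formEquiv.symm (fun β => formCoeff β G) = G from formEquiv.symm_apply_apply G] at this⟩
  refine ⟨P, MvPolynomial.funext fun x => ?_, hP0⟩
  rw [map_zero]
  by_contra hne
  refine hP (fun β => eval x (psi n d k (X β))) ?_ (Fin.cons 1 fun i => x (Sum.inl i)) ⟨fun e => ?_, ?_⟩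
  · intro h0
    refine hne ?_
    conv_lhs => rw [← aeval_X_left_apply P]
    rw [← aeval_eq_eval, ← AlgHom.comp_apply, ← AlgHom.comp_apply, comp_aeval]
    rw [← aeval_eq_eval] at h0
    exact h0
  · exact one_ne_zero (α := k) (congrFun e 0)
  · have h1 := (isSingAt_gb (n := n) (d := d) (k := k) (by omega)).map (eval x)
    have h2 : map (eval x) (gb n d k) =
        (formEquiv.symm (fun β : Expo n d => eval x (psi n d k (X β))) : LefPen.Form n k d).1 := by
      let F : LefPen.Form n k d := ⟨map (eval x) (gb n d k), (mem_homogeneousSubmodule _ _).2 (gb_isHomogeneous.map _)⟩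
      rw [show (fun β : Expo n d => eval x (psi n d k (X β))) = formEquiv F from funext fun β => by
        rw [psi, aeval_X]
        exact (coeff_map _ _ _).symm, LinearEquiv.symm_apply_apply]
    rw [h2] at h1
    convert h1 using 1
    funext l
    refine Fin.cases ?_ (fun m => ?_) l <;> simp

/-- The singular forms are the zero set of one irreducible polynomial in the coefficients. -/
theorem exists_discriminant [IsAlgClosed k] (hn : 1 ≤ n) (hd : 2 ≤ d) :
    ∃ Δ : MvPolynomial (Expo n d) k, Irreducible Δ ∧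
      ∀ G : LefPen.Form n k d, IsSingForm G ↔ eval (fun β => formCoeff β G) Δ = 0 := by
  obtain ⟨G₀, hhom, hsing, hG₀⟩ := exists_cone (k := k) hn hd
  obtain ⟨Δ, hΔ, hker⟩ := exists_ker_psi_eq_span hd hhom hsing hG₀
  refine ⟨Δ, hΔ, fun G => ⟨fun h => eval_eq_zero_of_isSingForm hd ?_ G h, fun h => ?_⟩⟩
  · rw [← RingHom.mem_ker, hker]; exact Ideal.mem_span_singleton_self Δ
  · by_contra hns
    obtain ⟨P, hP, hP0⟩ := exists_ker_eval_ne_zero hd G hns
    rw [← RingHom.mem_ker, hker, Ideal.mem_span_singleton] at hP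
    obtain ⟨r, rfl⟩ := hP
    rw [map_mul, h, zero_mul] at hP0
    exact hP0 rfl

/-- Polynomial functions on forms are polynomials in the coefficients. -/
theorem exists_polyFun_irreducible [IsAlgClosed k] (hn : 1 ≤ n) (hd : 2 ≤ d) :
    ∃ Δ : ↥(Algebra.adjoin k (Set.range (fun l : Module.Dual k (LefPen.Form n k d) => (l : LefPen.Form n k d → k)))),
      Irreducible Δ ∧ ∀ G : LefPen.Form n k d, IsSingForm G ↔ Δ.1 G = 0 := by
  classical
  obtain ⟨Δ, hΔ, hzero⟩ := exists_discriminant (k := k) hn hd
  let S := Algebra.adjoin k (Set.range (fun l : Module.Dual k (LefPen.Form n k d) => (l : LefPen.Form n k d → k)))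
  let c : Expo n d → S := fun β => ⟨fun G => formCoeff β G, Algebra.subset_adjoin ⟨formCoeff β, rfl⟩⟩
  let φ : MvPolynomial (Expo n d) k →ₐ[k] S := aeval c
  have hφ : ∀ P G, (φ P).1 G = eval (fun β => formCoeff β G) P := fun P G => by
    let e : S →ₐ[k] k := (Pi.evalAlgHom k (fun _ => k) G).comp S.val
    show e (φ P) = _
    rw [← AlgHom.comp_apply, comp_aeval]
    rfl
  have hinj : Function.Injective φ := (injective_iff_map_eq_zero φ).2 fun P hP => by
    by_contra hne
    obtain ⟨H, hH⟩ := exists_eval_ne_zero hne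
    exact hH (by rw [← hφ, hP]; rfl)
  have hsurj : Function.Surjective φ := fun x => by
    have hle : S ≤ φ.range.map S.val := Algebra.adjoin_le (by
      rintro _ ⟨l, rfl⟩
      refine ⟨φ (∑ β : Expo n d, C (l (monoForm β)) * X β), ⟨_, rfl⟩, funext fun G => ?_⟩
      show (φ _).1 G = l G
      rw [hφ, map_sum]
      conv_rhs => rw [← sum_formCoeff G, map_sum]
      refine Finset.sum_congr rfl fun β _ => ?_
      rw [map_mul, eval_C, eval_X, map_smul, smul_eq_mul, mul_comm])
    obtain ⟨y, ⟨P, rfl⟩, hy⟩ := hle x.2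
    exact ⟨P, Subtype.ext hy⟩
  let E := AlgEquiv.ofBijective φ ⟨hinj, hsurj⟩
  refine ⟨E Δ, (MulEquiv.irreducible_iff E).2 hΔ, fun G => ?_⟩
  rw [hzero]
  exact Iff.of_eq (congrArg (· = 0) (hφ Δ G).symm)

end Groth.Agent.Fano25
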