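import Groth.Prelude.Def_LefPen
import Mathlib.RingTheory.AlgebraicIndependent.TranscendenceBasis
import Mathlib.LinearAlgebra.Matrix.Adjugate
import Mathlib.LinearAlgebra.Matrix.ToLin
import Mathlib.Algebra.MvPolynomial.Funext
import Mathlib.LinearAlgebra.Matrix.Rank
import Mathlib.Algebra.BigOperators.Field

/-! Elementary dimension counts: incidence conditions that are linear in the variable point. -/

open MvPolynomial

namespace Fano25

universe u v

/-- More polynomials than variables are algebraically dependent. -/
theorem exists_relation {k : Type u} [CommRing k] [IsDomain k] {ι : Type v} {J : Type v} [Fintype ι] [Fintype J]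
    (h : Fintype.card ι < Fintype.card J) (φ : J → MvPolynomial ι k) :
    ∃ Q : MvPolynomial J k, Q ≠ 0 ∧ aeval φ Q = 0 := by
  by_contra hne
  push Not at hne
  have hi : AlgebraicIndependent k φ := by
    rw [algebraicIndependent_iff]
    intro Q hQ
    by_contra h0
    exact hne Q h0 hQ
  have := hi.lift_cardinalMk_le_trdeg
  rw [MvPolynomial.trdeg_of_isDomain] at this
  simp at this
  omega

section

variable {k : Type u} [Field k] {P J R : Type} [Fintype P] [Fintype J] [Fintype R] [DecidableEq R] [DecidableEq J]
variable (A : Matrix R J (MvPolynomial P k)) (σ : R ↪ J)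

/-- The coordinates outside the chosen minor. -/
abbrev Outside : Type := {j : J // j ∉ Set.range σ}

/-- Parametrisation of the solutions of `A(x) c = 0` on the locus where the minor `σ` is invertible. -/
noncomputable def param (j : J) : MvPolynomial (P ⊕ Outside σ) k :=
  if h : j ∈ Set.range σ then
    -∑ s, rename Sum.inl ((A.submatrix id σ).adjugate h.choose s) *
      ∑ t : Outside σ, rename Sum.inl (A s t.1) * X (Sum.inr t)
  else rename Sum.inl (A.submatrix id σ).det * X (Sum.inr ⟨j, h⟩)

theorem card_param : Fintype.card (P ⊕ Outside σ) + Fintype.card R = Fintype.card P + Fintype.card J := by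
  classical
  rw [Fintype.card_sum, Fintype.card_subtype_compl]
  have h1 : Fintype.card {j : J // j ∈ Set.range σ} = Fintype.card R :=
    (Fintype.card_congr (Equiv.ofInjective σ σ.injective)).symm
  have h2 : Fintype.card {j : J // j ∈ Set.range σ} ≤ Fintype.card J := Fintype.card_subtype_le _
  omega

theorem param_spec {x : P → k} {c : J → k} (hd : eval x (A.submatrix id σ).det ≠ 0)
    (hc : ∀ r, ∑ j, eval x (A r j) * c j = 0) (j : J) :
    eval (Sum.elim x fun t : Outside σ => c t.1 / eval x (A.submatrix id σ).det) (param A σ j) = c j := by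
  classical
  set d := eval x (A.submatrix id σ).det
  set M : Matrix R R k := (A.submatrix id σ).map (eval x) with hM
  have hcomp : ∀ q : MvPolynomial P k,
      eval (Sum.elim x fun t : Outside σ => c t.1 / d) (rename Sum.inl q) = eval x q := fun q => by
    rw [eval_rename]; rfl
  rw [param]
  split_ifs with hj
  · obtain hr := hj.choose_spec
    set r := hj.choose
    simp only [map_neg, map_sum, map_mul, hcomp, eval_X, Sum.elim_inr]
    have hdet : d = M.det := RingHom.map_det (eval x) _
    have hadj : ∀ a b, eval x ((A.submatrix id σ).adjugate a b) = M.adjugate a b := fun a b => by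
      rw [hM, ← RingHom.mapMatrix_apply, ← RingHom.map_adjugate]; rfl
    simp only [hadj]
    have key : ∀ s, ∑ t : Outside σ, eval x (A s t.1) * (c t.1 / d) = -(M.mulVec (fun r => c (σ r)) s) / d := by
      intro s
      have h := hc s
      rw [← Fintype.sum_subtype_add_sum_subtype (fun j => j ∈ Set.range σ) (fun j => eval x (A s j) * c j)] at h
      have h' : ∑ i : {j // j ∈ Set.range σ}, eval x (A s i.1) * c i.1 = M.mulVec (fun r => c (σ r)) s := by
        rw [← (Equiv.ofInjective σ σ.injective).sum_comp]
        rfl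
      rw [eq_div_iff hd, Finset.sum_mul, ← h', eq_neg_iff_add_eq_zero, ← h, add_comm]
      congr 1
      all_goals first
        | exact Finset.sum_congr (by ext; simp) fun t _ => rfl
        | exact Finset.sum_congr (by ext; simp) fun t _ => by rw [mul_assoc, div_mul_cancel₀ _ hd]
    simp only [key]
    have hmv : M.adjugate.mulVec (M.mulVec fun r => c (σ r)) r = d * c (σ r) := by
      rw [Matrix.mulVec_mulVec, Matrix.adjugate_mul, Matrix.smul_mulVec, Matrix.one_mulVec, hdet]
      rfl
    rw [Matrix.mulVec] at hmv
    simp only [dotProduct] at hmv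
    rw [← hr, ← mul_div_cancel_left₀ (c (σ r)) hd, ← hmv, Finset.sum_div, ← Finset.sum_neg_distrib]
    exact Finset.sum_congr rfl fun s _ => by ring
  · simp only [map_mul, hcomp, eval_X, Sum.elim_inr]
    rw [mul_div_cancel₀ _ hd]

theorem exists_minor {x : P → k} (h : LinearIndependent k (fun r => fun j => eval x (A r j))) :
    ∃ σ : R ↪ J, eval x (A.submatrix id σ).det ≠ 0 := by
  classical
  let M : Matrix R J k := A.map (eval x)
  obtain ⟨κ, a, ha, hspan, hli⟩ := exists_linearIndependent' k M.col
  have : Finite κ := Finite.of_injective a ha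
  have := Fintype.ofFinite κ
  have hr : M.rank = Fintype.card R := LinearIndependent.rank_matrix h
  have hcard : Fintype.card κ = Fintype.card R := by
    rw [← finrank_span_eq_card hli, hspan, ← Matrix.rank_eq_finrank_span_cols, hr]
  let e : R ≃ κ := Fintype.equivOfCardEq hcard.symm
  refine ⟨⟨a ∘ e, ha.comp e.injective⟩, ?_⟩
  rw [RingHom.map_det]
  have hli' : LinearIndependent k ((M.submatrix id (a ∘ e)).col) := hli.comp e e.injective
  have := Matrix.linearIndependent_cols_iff_isUnit.mp hli'
  exact ((Matrix.isUnit_iff_isUnit_det _).mp this).ne_zero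

theorem exists_poly_empty (h : Fintype.card P < Fintype.card R) :
    ∃ Q : MvPolynomial J k, Q ≠ 0 ∧ ∀ (c : J → k) (x : P → k),
      LinearIndependent k (fun r => fun j => eval x (A r j)) → (∀ r, ∑ j, eval x (A r j) * c j = 0) →
        eval c Q = 0 := by
  classical
  choose Q hQ0 hQ using fun σ : R ↪ J => exists_relation (k := k) (ι := P ⊕ Outside σ) (J := J)
    (by have := card_param (P := P) σ; omega) (param A σ)
  refine ⟨∏ σ, Q σ, Finset.prod_ne_zero_iff.mpr fun σ _ => hQ0 σ, fun c x hx hc => ?_⟩
  obtain ⟨σ, hσ⟩ := exists_minor A hx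
  rw [map_prod]
  refine Finset.prod_eq_zero (Finset.mem_univ σ) ?_
  have := congrArg (eval (Sum.elim x fun t : Outside σ => c t.1 / eval x (A.submatrix id σ).det)) (hQ σ)
  rw [map_zero, aeval_def, eval₂_comp_left (eval _)] at this
  have he : (eval (Sum.elim x fun t : Outside σ => c t.1 / eval x (A.submatrix id σ).det)) ∘ param A σ = c :=
    funext fun j => param_spec A σ hσ hc j
  rw [he] at this
  rw [show RingHom.comp (eval _) (algebraMap k _) = RingHom.id k from RingHom.ext fun a => by simp] at this
  exact this

theorem exists_poly_finite (h : Fintype.card P ≤ Fintype.card R) :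
    ∃ Q : MvPolynomial J k, Q ≠ 0 ∧ ∀ c : J → k, eval c Q ≠ 0 →
      {x : P → k | LinearIndependent k (fun r => fun j => eval x (A r j)) ∧
        ∀ r, ∑ j, eval x (A r j) * c j = 0}.Finite := by
  classical
  choose W hW0 hW using fun (σ : R ↪ J) (p : P) => exists_relation (k := k) (ι := P ⊕ Outside σ) (J := Option J)
    (by have := card_param (P := P) σ; rw [Fintype.card_option]; omega)
    (fun o => o.elim (X (Sum.inl p)) (param A σ))
  let L : (R ↪ J) → P → Polynomial (MvPolynomial J k) := fun σ p => optionEquivLeft k J (W σ p)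
  have hL : ∀ σ p, L σ p ≠ 0 := fun σ p => by simpa [L] using hW0 σ p
  refine ⟨∏ σ, ∏ p, (L σ p).leadingCoeff, ?_, fun c hc => ?_⟩
  · simp [Finset.prod_ne_zero_iff, hL]
  let S : (R ↪ J) → Set (P → k) := fun σ => Set.pi Set.univ fun p =>
    ↑(((L σ p).map (eval c)).roots.toFinset)
  refine Set.Finite.subset (Set.finite_iUnion fun σ => Set.Finite.pi fun p => Finset.finite_toSet _) (s := ⋃ σ, S σ) ?_
  rintro x ⟨hx, hcx⟩
  obtain ⟨σ, hσ⟩ := exists_minor A hx
  refine Set.mem_iUnion.mpr ⟨σ, fun p _ => ?_⟩
  set y := Sum.elim x fun t : Outside σ => c t.1 / eval x (A.submatrix id σ).det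
  have hne : eval c (L σ p).leadingCoeff ≠ 0 := by
    rw [map_prod, Finset.prod_ne_zero_iff] at hc
    have := hc σ (Finset.mem_univ σ)
    rw [map_prod, Finset.prod_ne_zero_iff] at this
    exact this p (Finset.mem_univ p)
  have hmap : (L σ p).map (eval c) ≠ 0 := fun h0 => hne (by
    rw [Polynomial.leadingCoeff, ← Polynomial.coeff_map, h0, Polynomial.coeff_zero])
  rw [Finset.mem_coe, Multiset.mem_toFinset, Polynomial.mem_roots hmap, Polynomial.IsRoot,
    ← optionEquivLeft_elim_eval]
  have := congrArg (eval y) (hW σ p)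
  rw [map_zero, aeval_def, eval₂_comp_left (eval y)] at this
  have he : (eval y) ∘ (fun o : Option J => o.elim (X (Sum.inl p)) (param A σ)) = fun o => Option.elim o (x p) c :=
    funext fun o => by
      cases o with
      | none => simp [y]
      | some j => exact param_spec A σ hσ hcx j
  rw [he] at this
  rw [show RingHom.comp (eval _) (algebraMap k _) = RingHom.id k from RingHom.ext fun a => by simp] at this
  exact this

end

section Generic

variable {k : Type u} [Field k] [Infinite k] {V : Type u} [AddCommGroup V] [Module k V]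

theorem isPolyFun_eval {J : Type} [Fintype J] (b : Module.Basis J k V) (Q : MvPolynomial J k) :
    LefPen.IsPolyFun k (fun w : V => eval (fun j => b.repr w j) Q) := by
  induction Q using MvPolynomial.induction_on with
  | C a =>
    simp only [eval_C]
    exact Subalgebra.algebraMap_mem _ a
  | add p q hp hq =>
    simp only [map_add]
    exact Subalgebra.add_mem _ hp hq
  | mul_X p j hp =>
    simp only [map_mul, eval_X]
    exact Subalgebra.mul_mem _ hp (Algebra.subset_adjoin ⟨b.coord j, rfl⟩)

theorem isGeneric_of_poly {J : Type} [Fintype J] (b : Module.Basis J k V) {Q : MvPolynomial J k} (hQ : Q ≠ 0)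
    {S : Set V} (h : ∀ w : V, eval (fun j => b.repr w j) Q ≠ 0 → w ∈ S) : LefPen.IsGeneric k S := by
  refine ⟨_, isPolyFun_eval b Q, ?_, h⟩
  by_contra hne
  push Not at hne
  apply hQ
  apply MvPolynomial.funext
  intro c
  have := hne (b.equivFun.symm c)
  have h2 : (fun j => b.repr (b.equivFun.symm c) j) = c :=
    funext fun j => by rw [← b.equivFun_apply, LinearEquiv.apply_symm_apply]
  rw [h2] at this
  simpa using this

omit [Infinite k] in
theorem IsGeneric.mono {S T : Set V} (h : LefPen.IsGeneric k S) (hST : S ⊆ T) : LefPen.IsGeneric k T := by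
  obtain ⟨f, hf, hne, hS⟩ := h
  exact ⟨f, hf, hne, fun w hw => hST (hS w hw)⟩

/-- Coordinates of a polynomial function in a basis. -/
theorem exists_poly_of_isPolyFun {J : Type} [Fintype J] (b : Module.Basis J k V) {f : V → k}
    (hf : LefPen.IsPolyFun k f) : ∃ Q : MvPolynomial J k, ∀ w, f w = eval (fun j => b.repr w j) Q := by
  induction hf using Algebra.adjoin_induction with
  | mem x hx =>
    obtain ⟨l, rfl⟩ := hx
    refine ⟨∑ j, C (l (b j)) * X j, fun w => ?_⟩
    show l w = _
    conv_lhs => rw [← b.sum_repr w, map_sum]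
    simp [mul_comm, -Module.Basis.sum_repr]
  | algebraMap r => exact ⟨C r, fun w => by simp⟩
  | add x y _ _ hx hy =>
    obtain ⟨p, hp⟩ := hx
    obtain ⟨q, hq⟩ := hy
    exact ⟨p + q, fun w => by simp [hp, hq]⟩
  | mul x y _ _ hx hy =>
    obtain ⟨p, hp⟩ := hx
    obtain ⟨q, hq⟩ := hy
    exact ⟨p * q, fun w => by simp [hp, hq]⟩

theorem IsGeneric.iInter {J : Type} [Fintype J] (b : Module.Basis J k V) {ι : Type*} [Fintype ι] {S : ι → Set V}
    (h : ∀ i, LefPen.IsGeneric k (S i)) : LefPen.IsGeneric k (⋂ i, S i) := by
  classical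
  choose f hf hne hS using h
  choose Q hQ using fun i => exists_poly_of_isPolyFun b (hf i)
  have hQ0 : ∀ i, Q i ≠ 0 := fun i h0 => by
    obtain ⟨w, hw⟩ := hne i
    exact hw (by rw [hQ, h0, map_zero])
  refine isGeneric_of_poly b (Finset.prod_ne_zero_iff.mpr fun i _ => hQ0 i : ∏ i, Q i ≠ 0) fun w hw => ?_
  rw [map_prod, Finset.prod_ne_zero_iff] at hw
  exact Set.mem_iInter.mpr fun i => hS i w (by rw [hQ]; exact hw i (Finset.mem_univ i))

variable {P R J : Type} [Fintype P] [Fintype R] [Fintype J]

/-- Incidence with more conditions than parameters: empty over a general point. -/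
theorem isGeneric_incidence_empty (b : Module.Basis J k V) (L : R → V →ₗ[k] MvPolynomial P k)
    (h : Fintype.card P < Fintype.card R) :
    LefPen.IsGeneric k {w : V | ∀ x : P → k,
      LinearIndependent k (fun r => fun j => eval x (L r (b j))) → ¬ ∀ r, eval x (L r w) = 0} := by
  classical
  obtain ⟨Q, hQ0, hQ⟩ := exists_poly_empty (Matrix.of fun r j => L r (b j)) h
  refine isGeneric_of_poly b hQ0 fun w hw x hx hL => hw (hQ _ x hx fun r => ?_)
  rw [← hL r]
  conv_rhs => rw [← b.sum_repr w, map_sum, map_sum]
  simp [mul_comm, -Module.Basis.sum_repr]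

/-- Incidence with as many conditions as parameters: finite over a general point. -/
theorem isGeneric_incidence_finite (b : Module.Basis J k V) (L : R → V →ₗ[k] MvPolynomial P k)
    (h : Fintype.card P ≤ Fintype.card R) :
    LefPen.IsGeneric k {w : V | {x : P → k |
      LinearIndependent k (fun r => fun j => eval x (L r (b j))) ∧ ∀ r, eval x (L r w) = 0}.Finite} := by
  classical
  obtain ⟨Q, hQ0, hQ⟩ := exists_poly_finite (Matrix.of fun r j => L r (b j)) h
  refine isGeneric_of_poly b hQ0 fun w hw => (hQ _ hw).subset fun x hx => ⟨hx.1, fun r => ?_⟩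
  rw [← hx.2 r]
  conv_rhs => rw [← b.sum_repr w, map_sum, map_sum]
  simp [mul_comm, -Module.Basis.sum_repr]

end Generic

end Fano25
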