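import Groth.Agent.Fano25.CoreCount
import Groth.Agent.Fano25.GenericCount
import Groth.Prelude.Def_W4c2ratcurvhypCodim
import Mathlib.RingTheory.AlgebraicIndependent.AlgebraicClosure

/-! Codimension through generic points. -/

open MvPolynomial Module

namespace Fano25

universe u

variable {k : Type u} [Field k]

/-- Elements algebraic over `k(T)` generate a domain of transcendence degree at most `#T`. -/
theorem trdeg_le_of_algebraic {K : Type u} [Field K] [Algebra k K] {T : Set K} (hT : T.Finite) {A : Type u}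
    [CommRing A] [Algebra k A] (f : A →ₐ[k] K) (hf : Function.Injective f) {s : Set A}
    (hs : Algebra.adjoin k s = ⊤) (halg : ∀ a ∈ s, IsAlgebraic (IntermediateField.adjoin k T) (f a)) :
    Algebra.trdeg k A ≤ (T.ncard : Cardinal.{u}) := by
  classical
  let A0 := Algebra.adjoin k T
  let Ls : Subalgebra k K := (Subalgebra.algebraicClosure A0 K).restrictScalars k
  have hfA : ∀ a, f a ∈ Ls := by
    intro a
    have : a ∈ Algebra.adjoin k s := hs ▸ Algebra.mem_top
    have h1 : f a ∈ (Algebra.adjoin k s).map f := ⟨a, this, rfl⟩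
    rw [AlgHom.map_adjoin] at h1
    refine (Algebra.adjoin_le ?_ : Algebra.adjoin k (f '' s) ≤ Ls) h1
    rintro _ ⟨b, hb, rfl⟩
    exact IntermediateField.isAlgebraic_adjoin_iff.mp (halg b hb)
  let g : A →ₐ[k] Ls := f.codRestrict Ls hfA
  have hg : Function.Injective g := fun a b h => hf (congrArg Subtype.val h)
  refine (trdeg_le_of_injective g hg).trans ?_
  let T' : Set Ls := Subtype.val ⁻¹' T
  have hTL : T ⊆ Ls := fun x hx => isAlgebraic_algebraMap (⟨x, Algebra.subset_adjoin hx⟩ : A0)
  have himg : Ls.val '' T' = T := by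
    ext x
    exact ⟨by rintro ⟨y, hy, rfl⟩; exact hy, fun hx => ⟨⟨x, hTL hx⟩, hx, rfl⟩⟩
  have hmap : (Algebra.adjoin k T').map Ls.val = A0 := by rw [AlgHom.map_adjoin, himg]
  let h : Algebra.adjoin k T' →+* A0 :=
    ((Ls.val.comp (Algebra.adjoin k T').val).codRestrict A0 fun a => hmap ▸ ⟨a.1, a.2, rfl⟩).toRingHom
  have hsurj : Function.Surjective h := by
    rintro ⟨x, hx⟩
    rw [← hmap] at hx
    obtain ⟨y, hy, rfl⟩ := hx
    exact ⟨⟨y, hy⟩, rfl⟩
  have : Algebra.IsAlgebraic (Algebra.adjoin k T') Ls := ⟨fun x =>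
    IsAlgebraic.of_ringHom_of_comp_eq (f := h) (g := Ls.val.toRingHom) (show IsAlgebraic A0 x.1 from x.2)
      hsurj Subtype.val_injective rfl⟩
  refine (Algebra.IsAlgebraic.trdeg_le_cardinalMk (R := k) (s := T')).trans ?_
  rw [← Cardinal.mk_image_eq Subtype.val_injective, show Subtype.val '' T' = T from himg]
  exact le_of_eq (by
    have := hT.fintype
    rw [Cardinal.mk_fintype, Set.ncard_eq_toFinset_card', Set.toFinset_card])

/-- Codimension from the transcendence degree of the generic points of the closure. -/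
theorem codimGE_of_generic [Infinite k] {V : Type u} [AddCommGroup V] [Module k V] {N : ℕ} (b : Basis (Fin N) k V)
    (D : Set V) (c : ℕ)
    (h : ∀ P : Ideal (MvPolynomial (Fin N) k), P.IsPrime →
      (∀ Q : MvPolynomial (Fin N) k, (∀ w ∈ D, eval (fun j => b.repr w j) Q = 0) → Q ∈ P) → qdim P + c ≤ N) :
    LefPen.CodimGE k D c := by
  let Θ : MvPolynomial (Fin N) k →ₐ[k] LefPen.polyFunAlg k V :=
    aeval fun j => (⟨fun w => b.repr w j, Algebra.subset_adjoin ⟨b.coord j, rfl⟩⟩ : LefPen.polyFunAlg k V)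
  have hΘ : ∀ Q w, (Θ Q).1 w = eval (fun j => b.repr w j) Q := by
    intro Q w
    induction Q using MvPolynomial.induction_on with
    | C a => simp [Θ]
    | add p q hp hq => simp [map_add, hp, hq]
    | mul_X p i hp =>
      rw [map_mul, map_mul, eval_X, ← hp]
      show (Θ p).1 w * (Θ (X i)).1 w = _
      simp [Θ]
  have hbij : Function.Bijective Θ := by
    constructor
    · refine (injective_iff_map_eq_zero _).mpr fun Q hQ => MvPolynomial.funext fun x => ?_
      have h0 := congrFun (congrArg Subtype.val hQ) (b.equivFun.symm x)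
      rw [hΘ] at h0
      rw [map_zero]
      replace h0 : eval (fun j => b.repr (b.equivFun.symm x) j) Q = 0 := h0
      convert h0 using 2
      congr 1
      funext j
      rw [← b.equivFun_apply, LinearEquiv.apply_symm_apply]
    · rintro ⟨f, hf⟩
      obtain ⟨Q, hQ⟩ := exists_poly_of_isPolyFun b hf
      exact ⟨Q, Subtype.ext (funext fun w => by rw [hΘ]; exact (hQ w).symm)⟩
  let e := RingEquiv.ofBijective Θ hbij
  show (c : ℕ∞) ≤ (LefPen.vanishingFun k D).height
  rw [← e.height_comap, Ideal.height_eq_inf_minimalPrimes]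
  refine le_iInf₂ fun P hP => ?_
  have := hP.1.1
  have h1 := h P hP.1.1 fun Q hQ => hP.1.2 (show Θ Q ∈ LefPen.vanishingFun k D from fun w hw => by
    rw [hΘ]; exact hQ w hw)
  have h2 := height_add_qdim P
  obtain ⟨a, ha⟩ := ENat.ne_top_iff_exists.mp (fun ht => by simp [ht] at h2 : P.height ≠ ⊤)
  rw [← ha] at h2 ⊢
  norm_cast at h2 ⊢
  omega

end Fano25
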