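import Groth.Agent.An92.Lef.Forms
import Groth.Agent.An92.Lef.Elim
import Groth.Agent.VarGal.ProjDim
import Mathlib.RingTheory.MvPolynomial.IrreducibleQuadratic
import Mathlib.Algebra.Squarefree.Basic
import Mathlib.FieldTheory.IsAlgClosed.Basic

/-!
The squarefree forms of a given degree form a nonempty Zariski open set.
-/

set_option autoImplicit false
universe u

open MvPolynomial
open Groth.Agent.An92.Lef (Expo monoForm formCoeff formEquiv spec sum_formCoeff isPolyFun_eval exists_elim)

noncomputable section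

namespace Groth.Agent.Fano25

variable {k : Type u} [Field k] {r d : ℕ}

theorem expo_sum_eq {a : ℕ} (H : LefPen.Form r k a) :
    H.1 = ∑ j : Expo r a, monomial j.1 (formCoeff j H) := by
  conv_lhs => rw [← sum_formCoeff H]
  rw [AddSubmonoidClass.coe_finset_sum]
  refine Finset.sum_congr rfl fun j _ => ?_
  simp [monoForm, smul_monomial]

theorem coeff_sq_mul_monomial {R : ℕ} {a : ℕ} (e : Fin (R + 1) ≃ Expo r a) (v : Fin (R + 1) → k)
    (j β : Fin (r + 1) →₀ ℕ) :
    coeff β ((∑ t, monomial (e t).1 (v t)) ^ 2 * monomial j 1) =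
      ∑ t, ∑ s, if (e t).1 + (e s).1 + j = β then v t * v s else 0 := by
  classical
  rw [pow_two, Finset.sum_mul_sum, Finset.sum_mul, coeff_sum]
  refine Finset.sum_congr rfl fun t _ => ?_
  rw [Finset.sum_mul, coeff_sum]
  refine Finset.sum_congr rfl fun s _ => ?_
  rw [monomial_mul, monomial_mul, coeff_monomial, mul_one]

/-- Zariski openness of the complement of the divisibility by a square of given degree. -/
theorem exists_sq_elim [IsAlgClosed k] {a b : ℕ} (hab : a + a + b = d) (F₀ : LefPen.Form r k d)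
    (h₀ : ∀ G : LefPen.Form r k a, G.1 ≠ 0 → ¬ ∃ H : LefPen.Form r k b, F₀.1 = G.1 ^ 2 * H.1) :
    ∃ q : MvPolynomial (Expo r d) k, eval (fun β => formCoeff β F₀) q ≠ 0 ∧
      ∀ F : LefPen.Form r k d, eval (fun β => formCoeff β F) q ≠ 0 →
        ∀ G : LefPen.Form r k a, G.1 ≠ 0 → ¬ ∃ H : LefPen.Form r k b, F.1 = G.1 ^ 2 * H.1 := by
  classical
  have hne : Nonempty (Expo r a) := ⟨⟨Finsupp.single 0 a, by simp⟩⟩
  obtain ⟨R, hR⟩ : ∃ R, Fintype.card (Expo r a) = R + 1 :=
    ⟨_, (Nat.sub_add_cancel Fintype.card_pos).symm⟩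
  let e : Fin (R + 1) ≃ Expo r a := (Fintype.equivFinOfCardEq hR).symm
  let gp : (Fin (R + 1) → k) → MvPolynomial (Fin (r + 1)) k := fun v => ∑ t, monomial (e t).1 (v t)
  let Z : (Fin (R + 1) → k) → (Expo r d → k) → Prop := fun v c =>
    v ≠ 0 ∧ ∃ H : LefPen.Form r k b, (formEquiv.symm c).1 = gp v ^ 2 * H.1
  let M : Expo r d → Option (Expo r b) → (MvPolynomial (Fin (R + 1)) (MvPolynomial (Expo r d) k)) := fun β j => j.elim (C (X β)) fun j =>
    ∑ t, ∑ s, if (e t).1 + (e s).1 + j.1 = β.1 then X t * X s else 0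
  have hM : ∀ v c β, eval v (spec c (M β none)) = c β := fun v c β => by simp [M, spec]
  have hM' : ∀ v c β (j : Expo r b), eval v (spec c (M β (some j))) = coeff β.1 (gp v ^ 2 * monomial j.1 1) := by
    intro v c β j
    simp only [gp, coeff_sq_mul_monomial]
    simp only [M, Option.elim, spec, map_sum]
    refine Finset.sum_congr rfl fun t _ => Finset.sum_congr rfl fun s _ => ?_
    split_ifs <;> simp
  have hgp : ∀ v : Fin (R + 1) → k, v ≠ 0 → gp v ≠ 0 := by
    intro v hv h
    refine hv (funext fun t => ?_)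
    have := congrArg (coeff (e t).1) h
    simp only [gp, coeff_sum, coeff_monomial, coeff_zero] at this
    rw [Finset.sum_eq_single t (fun s _ hs => if_neg fun he => hs (e.injective (Subtype.ext he)))
      (by simp), if_pos rfl] at this
    exact this
  have hgh : ∀ v, (gp v).IsHomogeneous a := fun v =>
    IsHomogeneous.sum _ _ _ fun t _ => isHomogeneous_monomial _ (e t).2
  have hmk : ∀ v c (x : Option (Expo r b) → k) (β : Expo r d), ∑ j, x j * eval v (spec c (M β j)) =
      coeff β.1 ((formEquiv.symm c).1 * C (x none) +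
        gp v ^ 2 * (formEquiv.symm (fun j => x (some j)) : LefPen.Form r k b).1) := by
    intro v c x β
    rw [Fintype.sum_option, hM, expo_sum_eq (formEquiv.symm (fun j => x (some j)) : LefPen.Form r k b),
      Finset.mul_sum, coeff_add, coeff_sum, mul_comm _ (C _), coeff_C_mul]
    congr 1
    · exact congrArg (x none * ·) (congrFun (formEquiv.apply_symm_apply c) β).symm
    · refine Finset.sum_congr rfl fun j _ => ?_
      rw [hM', show formCoeff j (formEquiv.symm fun j => x (some j)) = x (some j) from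
        congrFun (formEquiv.apply_symm_apply (fun j => x (some j))) j,
        show monomial j.1 (x (some j)) = C (x (some j)) * monomial j.1 1 by rw [C_mul_monomial, mul_one],
        mul_left_comm, coeff_C_mul]
  have hsep : ∀ v₀ c₀, v₀ ≠ 0 → ¬ Z v₀ c₀ → ∃ (n : ℕ) (P : (MvPolynomial (Fin (R + 1)) (MvPolynomial (Expo r d) k))), P.IsHomogeneous n ∧
      (∀ v c, Z v c → eval v (spec c P) = 0) ∧ eval v₀ (spec c₀ P) ≠ 0 := by
    intro v₀ c₀ hv₀ hZ
    let φ : (Option (Expo r b) → k) →ₗ[k] (Expo r d → k) :=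
      Matrix.mulVecLin (Matrix.of fun β j => eval v₀ (spec c₀ (M β j)))
    have hφ : LinearMap.ker φ = ⊥ := by
      refine LinearMap.ker_eq_bot'.2 fun x hx => ?_
      have hx' : ∀ β : Expo r d, coeff β.1 ((formEquiv.symm c₀).1 * C (x none) +
          gp v₀ ^ 2 * (formEquiv.symm (fun j => x (some j)) : LefPen.Form r k b).1) = 0 := by
        intro β
        rw [← hmk]
        have := congrFun hx β
        simp only [φ, Matrix.mulVecLin_apply, Matrix.mulVec, dotProduct, Matrix.of_apply, Pi.zero_apply] at this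
        rw [← this]
        exact Finset.sum_congr rfl fun j _ => mul_comm _ _
      set H : LefPen.Form r k b := formEquiv.symm fun j => x (some j) with hH
      have h0 : (formEquiv.symm c₀).1 * C (x none) + gp v₀ ^ 2 * H.1 = 0 := by
        have hhom : ((formEquiv.symm c₀).1 * C (x none) + gp v₀ ^ 2 * H.1).IsHomogeneous d := by
          refine IsHomogeneous.add ?_ ?_
          · rw [mul_comm]; exact IsHomogeneous.C_mul (formEquiv.symm c₀).2 _
          · have := ((hgh v₀).pow 2).mul (show H.1.IsHomogeneous b from H.2)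
            rwa [show a * 2 + b = d by omega] at this
        ext m
        rw [coeff_zero]
        by_cases hm : m.degree = d
        · exact hx' ⟨m, hm⟩
        · exact hhom.coeff_eq_zero hm
      have hn : x none = 0 := by
        by_contra hn
        refine hZ ⟨hv₀, -(x none)⁻¹ • H, ?_⟩
        rw [Submodule.coe_smul, smul_eq_C_mul, map_neg]
        have hC : C (x none) * C (x none)⁻¹ = (1 : MvPolynomial (Fin (r + 1)) k) := by
          rw [← map_mul, mul_inv_cancel₀ hn, map_one]
        linear_combination (C (x none)⁻¹ : MvPolynomial (Fin (r + 1)) k) * h0 -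
          (formEquiv.symm c₀).1 * hC
      rw [hn, map_zero, mul_zero, zero_add, mul_eq_zero] at h0
      have hH0 : H = 0 := Subtype.ext (h0.resolve_left (pow_ne_zero 2 (hgp v₀ hv₀)))
      funext j
      cases j with
      | none => exact hn
      | some j =>
        have := congrFun (formEquiv.apply_symm_apply (fun j => x (some j))) j
        rw [← hH, hH0] at this
        exact this.symm.trans (congrFun (map_zero _) j)
    obtain ⟨L, hL⟩ := φ.exists_leftInverse_of_injective hφ
    let Lm : Matrix (Option (Expo r b)) (Expo r d) k := LinearMap.toMatrix' L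
    let P : Matrix (Option (Expo r b)) (Option (Expo r b)) (MvPolynomial (Fin (R + 1)) (MvPolynomial (Expo r d) k)) := Matrix.of fun i j => ∑ β, C (C (Lm i β)) * M β j
    refine ⟨∑ j : Option (Expo r b), j.elim 0 fun _ => 2, P.det, ?_, ?_, ?_⟩
    · rw [Matrix.det_apply]
      refine IsHomogeneous.sum _ _ (∑ j : Option (Expo r b), j.elim 0 fun _ => 2) fun σ _ => ?_
      rw [Units.smul_def, zsmul_eq_mul, ← map_intCast (C (σ := Fin (R + 1)) (R := MvPolynomial (Expo r d) k))]
      refine IsHomogeneous.C_mul (IsHomogeneous.prod _ _ _ fun j _ => ?_) _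
      simp only [P, Matrix.of_apply]
      refine IsHomogeneous.sum _ _ _ fun β _ => IsHomogeneous.C_mul ?_ _
      cases j with
      | none => exact isHomogeneous_C _ _
      | some j =>
        refine IsHomogeneous.sum _ _ _ fun t _ => IsHomogeneous.sum _ _ _ fun s _ => ?_
        split_ifs
        · exact (isHomogeneous_X _ _).mul (isHomogeneous_X _ _)
        · exact isHomogeneous_zero _ _ _
    · rintro v c ⟨hv, H, hH⟩
      rw [RingHom.map_det, RingHom.map_det]
      refine Matrix.exists_mulVec_eq_zero_iff.1 ⟨fun j => j.elim (-1) fun j => formCoeff j H, ?_, ?_⟩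
      · intro h
        simpa using congrFun h none
      · funext i
        simp only [P, RingHom.mapMatrix_apply, Matrix.mulVec, dotProduct, Matrix.map_apply, Matrix.of_apply,
          map_sum, map_mul, Finset.sum_mul, Pi.zero_apply]
        rw [Finset.sum_comm]
        refine Finset.sum_eq_zero fun β _ => ?_
        rw [show ∑ j, eval v (spec c (C (C (Lm i β)))) * eval v (spec c (M β j)) *
            (j.elim (-1) fun j => formCoeff j H) = eval v (spec c (C (C (Lm i β)))) *
            ∑ j, (j.elim (-1) fun j => formCoeff j H) * eval v (spec c (M β j)) by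
          rw [Finset.mul_sum]; exact Finset.sum_congr rfl fun j _ => by ring, hmk]
        rw [show (formEquiv.symm fun j : Expo r b => (some j).elim (-1) fun j => formCoeff j H) = H from
          formEquiv.symm_apply_apply H, ← hH]
        simp
    · rw [RingHom.map_det, RingHom.map_det]
      have h1 : (eval v₀).mapMatrix ((spec c₀).mapMatrix P) = 1 := by
        rw [← LinearMap.toMatrix'_id, ← hL, LinearMap.toMatrix'_comp]
        ext i j
        simp [P, Matrix.mul_apply, Lm, φ, spec]
      rw [h1, Matrix.det_one]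
      exact one_ne_zero
  have hgoal : ∀ (F : LefPen.Form r k d), (∀ v, ¬ Z v fun β => formCoeff β F) ↔
      ∀ G : LefPen.Form r k a, G.1 ≠ 0 → ¬ ∃ H : LefPen.Form r k b, F.1 = G.1 ^ 2 * H.1 := by
    intro F
    have hF : formEquiv.symm (fun β => formCoeff β F) = F := formEquiv.symm_apply_apply F
    constructor
    · rintro h G hG ⟨H, hH⟩
      have hG' : gp (fun t => formCoeff (e t) G) = G.1 := by
        rw [expo_sum_eq G]
        exact Fintype.sum_equiv e _ _ fun _ => rfl
      refine h (fun t => formCoeff (e t) G) ⟨fun h0 => hG ?_, H, ?_⟩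
      · rw [← hG', h0]; simp [gp]
      · rw [hF, hG']; exact hH
    · rintro h v ⟨hv, H, hH⟩
      refine h ⟨gp v, (mem_homogeneousSubmodule _ _).2 (hgh v)⟩ (hgp v hv) ⟨H, ?_⟩
      rw [hF] at hH
      exact hH
  obtain ⟨q, hq0, hq⟩ := exists_elim Z (fun v c h => h.1) hsep _ ((hgoal F₀).2 h₀)
  exact ⟨q, hq0, fun F hF => (hgoal F).1 (hq _ hF)⟩

theorem isUnit_of_isHomogeneous_zero {x : MvPolynomial (Fin (r + 1)) k} (hx : x.IsHomogeneous 0) (hx0 : x ≠ 0) :
    IsUnit x := by
  obtain ⟨c, rfl⟩ : ∃ c, x = C c := ⟨_, totalDegree_eq_zero_iff_eq_C.1 (hx.totalDegree hx0)⟩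
  exact (isUnit_iff_ne_zero.2 fun h => hx0 (by rw [h, map_zero])).map C

theorem not_squarefree_iff (F : LefPen.Form r k d) (hF : F.1 ≠ 0) :
    ¬ Squarefree F.1 ↔ ∃ a ∈ Finset.Icc 1 (d / 2), ∃ G : LefPen.Form r k a, G.1 ≠ 0 ∧
      ∃ H : LefPen.Form r k (d - (a + a)), F.1 = G.1 ^ 2 * H.1 := by
  constructor
  · intro h
    simp only [Squarefree, not_forall] at h
    obtain ⟨x, hx, hu⟩ := h
    have hF' : F.1.IsHomogeneous d := F.2
    obtain ⟨a, ha⟩ := VarGal.exists_isHomogeneous_of_dvd hF' hF ((dvd_mul_right x x).trans hx)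
    obtain ⟨y, hy⟩ := hx
    obtain ⟨b, hb⟩ := VarGal.exists_isHomogeneous_of_dvd hF' hF (show y ∣ F.1 from ⟨x * x, by rw [hy]; ring⟩)
    have hx0 : x ≠ 0 := fun h => hF (by rw [hy, h, zero_mul, zero_mul])
    have hd : a + a + b = d :=
      ((ha.mul ha).mul hb).inj_right (by rw [← hy]; exact hF') (by rw [← hy]; exact hF)
    have ha0 : a ≠ 0 := fun h => hu (isUnit_of_isHomogeneous_zero (h ▸ ha) hx0)
    refine ⟨a, Finset.mem_Icc.2 ⟨by omega, by omega⟩, ⟨x, (mem_homogeneousSubmodule _ _).2 ha⟩, hx0,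
      ⟨y, (mem_homogeneousSubmodule _ _).2 (by rwa [show d - (a + a) = b by omega])⟩, ?_⟩
    rw [hy, pow_two]
  · rintro ⟨a, ha, G, hG, H, hH⟩ hsq
    have hu : IsUnit G.1 := hsq G.1 ⟨H.1, by rw [hH, pow_two]⟩
    have h1 := (isUnit_iff_totalDegree_of_isReduced.1 hu).2
    rw [(show G.1.IsHomogeneous a from G.2).totalDegree hG] at h1
    have := Finset.mem_Icc.1 ha
    omega

theorem isZOpen_squarefree [IsAlgClosed k] :
    LefPen.IsZOpen k {F : LefPen.Form r k d | Squarefree F.1} := by
  classical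
  intro F₀ hF₀
  have hne : F₀.1 ≠ 0 := hF₀.ne_zero
  obtain ⟨m, hm⟩ := ne_zero_iff.1 hne
  have hmd : m.degree = d := by
    by_contra h
    exact hm ((show F₀.1.IsHomogeneous d from F₀.2).coeff_eq_zero h)
  have : ∀ a ∈ Finset.Icc 1 (d / 2), ∃ q : MvPolynomial (Expo r d) k, eval (fun β => formCoeff β F₀) q ≠ 0 ∧
      ∀ F : LefPen.Form r k d, eval (fun β => formCoeff β F) q ≠ 0 →
        ∀ G : LefPen.Form r k a, G.1 ≠ 0 → ¬ ∃ H : LefPen.Form r k (d - (a + a)), F.1 = G.1 ^ 2 * H.1 := by
    intro a ha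
    refine exists_sq_elim (by have := Finset.mem_Icc.1 ha; omega) F₀ fun G hG hH => ?_
    exact (not_squarefree_iff F₀ hne).2 ⟨a, ha, G, hG, hH⟩ hF₀
  choose q hq0 hq using this
  let Q : MvPolynomial (Expo r d) k := X ⟨m, hmd⟩ * ∏ a ∈ (Finset.Icc 1 (d / 2)).attach, q a.1 a.2
  refine ⟨fun F => eval (fun β => formCoeff β F) Q, isPolyFun_eval _ _, ?_, fun F hF => ?_⟩
  · simp only [Q, map_mul, eval_X, map_prod]
    exact mul_ne_zero hm (Finset.prod_ne_zero_iff.2 fun a _ => hq0 a.1 a.2)
  · simp only [Q, map_mul, eval_X, map_prod, mul_ne_zero_iff, Finset.prod_ne_zero_iff] at hF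
    by_contra hsq
    have hF0 : F.1 ≠ 0 := fun h => hF.1 (show coeff m F.1 = 0 by rw [h, coeff_zero])
    obtain ⟨a, ha, G, hG, hH⟩ := (not_squarefree_iff F hF0).1 hsq
    exact hq a ha F (hF.2 ⟨a, ha⟩ (Finset.mem_attach _ _)) G hG hH

theorem exists_squarefree [IsAlgClosed k] (hr : 1 ≤ r) (d : ℕ) : ∃ F : LefPen.Form r k d, Squarefree F.1 := by
  classical
  have hinf : Infinite k := inferInstance
  let c : ℕ → k := Infinite.natEmbedding k
  have h01 : (⟨1, by omega⟩ : Fin (r + 1)) ≠ 0 := fun h => by simpa using congrArg Fin.val h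
  let L : ℕ → MvPolynomial (Fin (r + 1)) k := fun i => X 0 + C (c i) * X ⟨1, by omega⟩
  have hL : ∀ i, (L i).IsHomogeneous 1 := fun i => (isHomogeneous_X _ _).add (isHomogeneous_C_mul_X _ _)
  have hc : ∀ i, coeff (Finsupp.single 0 1) (L i) = 1 := fun i => by
    simp [L, coeff_X, Finsupp.single_left_inj, h01]
  have hirr : ∀ i, Irreducible (L i) := fun i => by
    refine irreducible_of_totalDegree_eq_one ((hL i).totalDegree fun h => ?_) fun x hx => ?_
    · simpa [h] using hc i
    · exact isUnit_of_dvd_one (hc i ▸ hx _)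
  refine ⟨⟨∏ i ∈ Finset.range d, L i, (mem_homogeneousSubmodule _ _).2 ?_⟩,
    (show Squarefree (∏ i ∈ Finset.range d, L i) from
      Finset.squarefree_prod_of_pairwise_isCoprime (fun i _ j _ hij => ?_) fun i _ => (hirr i).squarefree)⟩
  · simpa using IsHomogeneous.prod (Finset.range d) L (fun _ => 1) fun i _ => hL i
  · refine (hirr i).isRelPrime_iff_not_dvd.2 fun ⟨y, hy⟩ => hij ((Infinite.natEmbedding k).injective ?_)
    let v : Fin (r + 1) → k := fun t => if t = 0 then -c i else if t = ⟨1, by omega⟩ then 1 else 0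
    have h := congrArg (eval v) hy
    simp [L, v, h01] at h
    linear_combination -h

end Groth.Agent.Fano25
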